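import Cfsg.Agent.Lib.A8ThreeClass.Classes

/-!
The two subgroups of a Sylow 2-subgroup attached to the even vectors and to a complement, and their
behaviour under elements of odd order.
-/

set_option autoImplicit false
set_option linter.style.haveILetI false
set_option linter.unusedSectionVars false

open Cfsg

namespace CfsgLib.A8ThreeClass

variable {G : Type*} [Group G] [Finite G]

/-- an element of odd order moving `d` by an involution it centralises, fixes `d` -/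
theorem odd_fix {y d c : G} (hy : Odd (orderOf y)) (hc2 : c * c = 1) (hyc : y * c * y⁻¹ = c)
    (h : y * d * y⁻¹ = d * c) : y * d * y⁻¹ = d := by
  have hk : ∀ k : ℕ, y ^ k * d * (y ^ k)⁻¹ = d * c ^ k := by
    intro k
    induction k with
    | zero => simp
    | succ k ih =>
      rw [pow_succ', show y * y ^ k * d * (y * y ^ k)⁻¹ = y * (y ^ k * d * (y ^ k)⁻¹) * y⁻¹ by group, ih,
        ← conj_mul, h, ← conj_pow, hyc, mul_assoc, ← pow_succ']
  have h1 := hk (orderOf y)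
  rw [pow_orderOf_eq_one, one_mul, inv_one, mul_one, left_eq_mul] at h1
  obtain ⟨m, hm⟩ := hy
  rw [hm, pow_succ, pow_mul, pow_two, hc2, one_pow, one_mul] at h1
  rw [h, h1, mul_one]

namespace Lab

variable {A : Subgroup G} {R : Sylow 2 G} {q : ↥(Subgroup.normalizer (A : Set G)) →* Equiv.Perm (Fin 5)}
  {el : B4 → G}

/-- a complement: two commuting involutions over generators of the four-group -/
structure Lifts (L : Lab A R q el) (s₁ s₂ : G) : Prop where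
  h₁ : s₁ ∈ (R : Subgroup G)
  h₂ : s₂ ∈ (R : Subgroup G)
  sq₁ : s₁ * s₁ = 1
  sq₂ : s₂ * s₂ = 1
  cm : s₁ * s₂ = s₂ * s₁
  q₁ : q ⟨s₁, L.RN h₁⟩ = v1
  q₂ : q ⟨s₂, L.RN h₂⟩ = v2

variable (L : Lab A R q el)
include L

/-- membership in the complement -/
def InE (_ : Lab A R q el) (s₁ s₂ e : G) : Prop := e = 1 ∨ e = s₁ ∨ e = s₂ ∨ e = s₁ * s₂

/-- the even vectors -/
def dsub : Subgroup G where
  carrier := {g | ∃ x, par x = false ∧ el x = g}
  one_mem' := ⟨zb4, misc_facts.2.2.2.2.2.2.2, L.el_zero⟩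
  mul_mem' := by
    rintro a b ⟨x, hx, rfl⟩ ⟨y, hy, rfl⟩
    exact ⟨xr x y, by rw [par_add, hx, hy]; rfl, L.el_add x y⟩
  inv_mem' := by
    rintro a ⟨x, hx, rfl⟩
    exact ⟨x, hx, (L.el_inv x).symm⟩

theorem mem_dsub {g : G} : g ∈ L.dsub ↔ ∃ x, par x = false ∧ el x = g := Iff.rfl

theorem dsub_le : L.dsub ≤ A := by
  rintro _ ⟨x, -, rfl⟩; exact L.el_mem x

theorem z_dsub : el (zc 4) ∈ L.dsub := ⟨zc 4, par_facts.1, rfl⟩

theorem el_mem_dsub {x : B4} : el x ∈ L.dsub ↔ par x = false :=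
  ⟨fun ⟨y, hy, e⟩ => L.el_inj e ▸ hy, fun h => ⟨x, h, rfl⟩⟩

variable {s₁ s₂ : G} (M : Lifts L s₁ s₂)
include M

theorem inE_facts {e : G} (he : InE L s₁ s₂ e) :
    ∃ h : e ∈ (R : Subgroup G), e * e = 1 ∧
      ((e = 1 ∧ q ⟨e, L.RN h⟩ = 1) ∨ (e = s₁ ∧ q ⟨e, L.RN h⟩ = v1) ∨ (e = s₂ ∧ q ⟨e, L.RN h⟩ = v2) ∨
        (e = s₁ * s₂ ∧ q ⟨e, L.RN h⟩ = v3)) := by
  rcases he with rfl | rfl | rfl | rfl
  · exact ⟨one_mem _, one_mul _, Or.inl ⟨rfl, map_one q⟩⟩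
  · exact ⟨M.h₁, M.sq₁, Or.inr (Or.inl ⟨rfl, M.q₁⟩)⟩
  · exact ⟨M.h₂, M.sq₂, Or.inr (Or.inr (Or.inl ⟨rfl, M.q₂⟩))⟩
  · refine ⟨mul_mem M.h₁ M.h₂, ?_, Or.inr (Or.inr (Or.inr ⟨rfl, ?_⟩))⟩
    · calc s₁ * s₂ * (s₁ * s₂) = s₁ * s₂ * (s₂ * s₁) := by rw [M.cm]
        _ = s₁ * (s₂ * s₂) * s₁ := by group
        _ = 1 := by rw [M.sq₂, mul_one, M.sq₁]
    · show q (⟨s₁, L.RN M.h₁⟩ * ⟨s₂, L.RN M.h₂⟩) = v3
      rw [map_mul, M.q₁, M.q₂, misc_facts.1]

theorem inE_R {e : G} (he : InE L s₁ s₂ e) : e ∈ (R : Subgroup G) := (inE_facts L M he).1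

theorem inE_four {e : G} (he : InE L s₁ s₂ e) :
    q ⟨e, L.RN (inE_R L M he)⟩ = 1 ∨ q ⟨e, L.RN (inE_R L M he)⟩ = v1 ∨ q ⟨e, L.RN (inE_R L M he)⟩ = v2 ∨
      q ⟨e, L.RN (inE_R L M he)⟩ = v3 := mem_four.1 (L.qR _ (inE_R L M he))

theorem inE_inj {e f : G} (he : InE L s₁ s₂ e) (hf : InE L s₁ s₂ f)
    (h : q ⟨e, L.RN (inE_R L M he)⟩ = q ⟨f, L.RN (inE_R L M hf)⟩) : e = f := by
  obtain ⟨_, -, ce⟩ := inE_facts L M he
  obtain ⟨_, -, cf⟩ := inE_facts L M hf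
  rcases ce with ⟨a, b⟩ | ⟨a, b⟩ | ⟨a, b⟩ | ⟨a, b⟩ <;> rcases cf with ⟨c, d⟩ | ⟨c, d⟩ | ⟨c, d⟩ | ⟨c, d⟩ <;>
    first
      | exact a.trans c.symm
      | exact absurd ((b.symm.trans h).trans d) (by decide +kernel)

theorem inE_mul {e f : G} (he : InE L s₁ s₂ e) (hf : InE L s₁ s₂ f) : InE L s₁ s₂ (e * f) := by
  have a1 : s₁ * (s₁ * s₂) = s₂ := by rw [← mul_assoc, M.sq₁, one_mul]
  have a2 : s₂ * (s₁ * s₂) = s₁ := by rw [M.cm, ← mul_assoc, M.sq₂, one_mul]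
  have a3 : s₁ * s₂ * s₁ = s₂ := by rw [mul_assoc, ← M.cm, a1]
  have a4 : s₁ * s₂ * s₂ = s₁ := by rw [mul_assoc, M.sq₂, mul_one]
  have a5 : s₁ * s₂ * (s₁ * s₂) = 1 := (inE_facts L M (Or.inr (Or.inr (Or.inr rfl)))).2.1
  rcases he with rfl | rfl | rfl | rfl <;> rcases hf with rfl | rfl | rfl | rfl <;>
    simp only [one_mul, mul_one, M.sq₁, M.sq₂, a1, a2, a3, a4, a5, ← M.cm, InE, true_or, or_true]

/-- every element of the Sylow subgroup is a vector times an element of the complement -/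
theorem decomp {r : G} (hr : r ∈ (R : Subgroup G)) : ∃ x e, InE L s₁ s₂ e ∧ r = el x * e := by
  obtain ⟨e, he, hq⟩ : ∃ e, ∃ he : InE L s₁ s₂ e, q ⟨e, L.RN (inE_R L M he)⟩ = q ⟨r, L.RN hr⟩ := by
    rcases mem_four.1 (L.qR r hr) with h | h | h | h <;> rw [h]
    · exact ⟨1, Or.inl rfl, map_one q⟩
    · exact ⟨s₁, Or.inr (Or.inl rfl), M.q₁⟩
    · exact ⟨s₂, Or.inr (Or.inr (Or.inl rfl)), M.q₂⟩
    · refine ⟨s₁ * s₂, Or.inr (Or.inr (Or.inr rfl)), ?_⟩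
      show q (⟨s₁, L.RN M.h₁⟩ * ⟨s₂, L.RN M.h₂⟩) = v3
      rw [map_mul, M.q₁, M.q₂, misc_facts.1]
  obtain ⟨x, hx⟩ := (L.el_iff (r * e⁻¹)).1 (L.qR_ker _ (mul_mem hr (inv_mem (inE_R L M he))) (by
    show q (⟨r, L.RN hr⟩ * ⟨e, L.RN (inE_R L M he)⟩⁻¹) = 1
    rw [map_mul, map_inv, hq, mul_inv_cancel]))
  exact ⟨x, e, he, by rw [hx, inv_mul_cancel_right]⟩

theorem decomp_inj {x y : B4} {e f : G} (he : InE L s₁ s₂ e) (hf : InE L s₁ s₂ f)
    (h : el x * e = el y * f) : x = y ∧ e = f := by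
  have hq : q (⟨el x, Subgroup.le_normalizer (L.el_mem x)⟩ * ⟨e, L.RN (inE_R L M he)⟩) =
      q (⟨el y, Subgroup.le_normalizer (L.el_mem y)⟩ * ⟨f, L.RN (inE_R L M hf)⟩) :=
    congrArg q (Subtype.ext h)
  rw [map_mul, map_mul, L.q_A (L.el_mem x), L.q_A (L.el_mem y), one_mul, one_mul] at hq
  obtain rfl := inE_inj L M he hf hq
  exact ⟨L.el_inj (mul_right_cancel h), rfl⟩

/-- the maximal subgroup cut out by the parity -/
def qsub : Subgroup G where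
  carrier := {g | ∃ x e, par x = false ∧ InE L s₁ s₂ e ∧ g = el x * e}
  one_mem' := ⟨zb4, 1, misc_facts.2.2.2.2.2.2.2, Or.inl rfl, by rw [L.el_zero, mul_one]⟩
  mul_mem' := by
    rintro _ _ ⟨x, e, hx, he, rfl⟩ ⟨y, f, hy, hf, rfl⟩
    refine ⟨xr x (act (q ⟨e, L.RN (inE_R L M he)⟩) y), e * f, ?_, inE_mul L M he hf, ?_⟩
    · rw [par_add, act_par _ (inE_four L M he), hx, hy]; rfl
    · rw [L.el_add, ← L.act_of (L.RN (inE_R L M he)) rfl]; group
  inv_mem' := by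
    rintro _ ⟨x, e, hx, he, rfl⟩
    refine ⟨act (q ⟨e, L.RN (inE_R L M he)⟩) x, e, ?_, he, ?_⟩
    · rw [act_par _ (inE_four L M he), hx]
    · rw [← L.act_of (L.RN (inE_R L M he)) rfl, mul_inv_rev, L.el_inv,
        inv_eq_of_mul_eq_one_right (inE_facts L M he).2.1, mul_assoc _ _ e, (inE_facts L M he).2.1, mul_one]

theorem mem_qsub {g : G} : g ∈ qsub L M ↔ ∃ x e, par x = false ∧ InE L s₁ s₂ e ∧ g = el x * e := Iff.rfl

theorem qsub_le : qsub L M ≤ (R : Subgroup G) := by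
  rintro _ ⟨x, e, -, he, rfl⟩
  exact mul_mem (L.AR (L.el_mem x)) (inE_R L M he)

theorem dsub_le_qsub : L.dsub ≤ qsub L M := by
  rintro _ ⟨x, hx, rfl⟩
  exact ⟨x, 1, hx, Or.inl rfl, (mul_one _).symm⟩

theorem el_mem_qsub {x : B4} {e : G} (he : InE L s₁ s₂ e) : el x * e ∈ qsub L M ↔ par x = false := by
  refine ⟨fun ⟨y, f, hy, hf, h⟩ => ?_, fun h => ⟨x, e, h, he, rfl⟩⟩
  rw [(decomp_inj L M he hf h).1]; exact hy

theorem qsub_inf {g : G} (hg : g ∈ qsub L M) (hA : g ∈ A) : g ∈ L.dsub := by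
  obtain ⟨x, rfl⟩ := (L.el_iff g).1 hA
  exact L.el_mem_dsub.2 ((el_mem_qsub L M (x := x) (e := 1) (Or.inl rfl)).1 (by rwa [mul_one]))

theorem qsub_index : (qsub L M).relIndex (R : Subgroup G) = 2 := by
  set w := xr (zc 0) (zc 4)
  rw [Subgroup.relIndex, Subgroup.index_eq_two_iff']
  refine ⟨⟨el w, L.AR (L.el_mem w)⟩, ?_⟩
  rintro ⟨r, hr⟩
  obtain ⟨x, e, he, rfl⟩ := decomp L M hr
  simp only [Subgroup.mem_subgroupOf, Subgroup.coe_mul]
  rw [← mul_assoc, ← L.el_add, el_mem_qsub L M he, el_mem_qsub L M he, par_add, par_facts.2.1]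
  cases par x <;> simp [Xor]

theorem qsub_sq {g : G} (hg : g ∈ qsub L M) : g * g = 1 ∨ g * g = el (zc 4) := by
  obtain ⟨x, e, hx, he, rfl⟩ := hg
  have h : el x * e * (el x * e) = el (xr x (act (q ⟨e, L.RN (inE_R L M he)⟩) x)) := by
    calc el x * e * (el x * e) = el x * (e * el x * e⁻¹) * (e * e) := by group
      _ = _ := by rw [(inE_facts L M he).2.1, mul_one, L.act_of (L.RN (inE_R L M he)) rfl, ← L.el_add]
  rcases act_even _ (inE_four L M he) x hx with h' | h'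
  · exact Or.inl (by rw [h, h', L.el_zero])
  · exact Or.inr (by rw [h, h'])

/-- **An element of odd order fixing a non-central element of the maximal subgroup centralises it.** -/
theorem odd_centralises (h3 : Nat.card {c : ConjClasses G // ∃ x ∈ c.carrier, orderOf x = 2} = 3)
    {y : G} (hy : Odd (orderOf y)) (hz : y * el (zc 4) * y⁻¹ = el (zc 4))
    (hQ : ∀ g ∈ qsub L M, y * g * y⁻¹ ∈ qsub L M) {t : G} (ht : t ∈ qsub L M) (ht1 : t ≠ 1)
    (htz : t ≠ el (zc 4)) (hyt : y * t * y⁻¹ = t ∨ y * t * y⁻¹ = t * el (zc 4)) :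
    ∀ g ∈ qsub L M, y * g * y⁻¹ = g := by
  have hD : ∀ b, par b = false → ∃ b', par b' = false ∧ y * el b * y⁻¹ = el b' := by
    intro b hb
    have h := hQ _ (dsub_le_qsub L M (L.el_mem_dsub.2 hb))
    obtain ⟨b', hb', e⟩ := qsub_inf L M h (L.strongly_closed h3 _ (L.el_mem b) y (qsub_le L M h))
    exact ⟨b', hb', e.symm⟩
  have caseD : ∀ x, par x = false → x ≠ zb4 → x ≠ zc 4 →
      (y * el x * y⁻¹ = el x ∨ y * el x * y⁻¹ = el x * el (zc 4)) → ∀ b, par b = false → y * el b * y⁻¹ = el b := by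
    intro x hx hx0 hxz h b hb
    have hxf : y * el x * y⁻¹ = el x := h.elim id (fun h => odd_fix hy (L.el_sq _) hz h)
    have hspan : ∀ c, (c = zb4 ∨ c = zc 4 ∨ c = x ∨ c = xr x (zc 4)) → y * el c * y⁻¹ = el c := by
      rintro c (rfl | rfl | rfl | rfl)
      · rw [L.el_zero]; group
      · exact hz
      · exact hxf
      · rw [L.el_add, ← conj_mul, hxf, hz]
    by_cases hbs : b = zb4 ∨ b = zc 4 ∨ b = x ∨ b = xr x (zc 4)
    · exact hspan b hbs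
    obtain ⟨b', hb', e⟩ := hD b hb
    have hb's : ¬ (b' = zb4 ∨ b' = zc 4 ∨ b' = x ∨ b' = xr x (zc 4)) := fun h' => hbs (by
      have := L.el_inj (mul_left_cancel (mul_right_cancel (e.trans (hspan b' h').symm)))
      rw [this]; exact h')
    simp only [not_or] at hbs hb's
    have hc := span_sum x b b' hx hx0 hxz hb hb' hbs hb's
    refine odd_fix hy (L.el_sq (xr b b')) (hspan _ hc) ?_
    rw [e, ← L.el_add, ← xr_assoc, (xr_facts b b).1, (xr_facts zb4 b').2.2.1, (xr_facts b' b').2.1]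
  obtain ⟨x, e, hx, he, rfl⟩ := ht
  have hDfix : ∀ b, par b = false → y * el b * y⁻¹ = el b := by
    obtain ⟨heR, -, hc⟩ := inE_facts L M he
    by_cases he1 : e = 1
    · subst he1
      simp only [mul_one] at ht1 htz hyt
      exact caseD x hx (fun h => ht1 (by rw [h, L.el_zero])) (fun h => htz (by rw [h])) hyt
    · have hσ : q ⟨e, L.RN heR⟩ = v1 ∨ q ⟨e, L.RN heR⟩ = v2 ∨ q ⟨e, L.RN heR⟩ = v3 := by
        rcases hc with ⟨h, -⟩ | ⟨-, h⟩ | ⟨-, h⟩ | ⟨-, h⟩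
        · exact absurd h he1
        · exact Or.inl h
        · exact Or.inr (Or.inl h)
        · exact Or.inr (Or.inr h)
      have hyt' : y * (el x * e) * y⁻¹ = el x * e := hyt.elim id (fun h => odd_fix hy (L.el_sq _) hz h)
      have hconj : ∀ b, (el x * e) * el b * (el x * e)⁻¹ = el (act (q ⟨e, L.RN heR⟩) b) := by
        intro b
        calc el x * e * el b * (el x * e)⁻¹ = el x * (e * el b * e⁻¹) * (el x)⁻¹ := by group
          _ = el (act (q ⟨e, L.RN heR⟩) b) := by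
            rw [L.act_of (L.RN heR) rfl, L.comm (L.el_mem x) (L.el_mem _), mul_inv_cancel_right]
      obtain ⟨w, hw, hw0, hwz, hwu⟩ := one_class _ hσ
      have hwfix : act (q ⟨e, L.RN heR⟩) w = w := by
        obtain ⟨σ', hσ', hfix⟩ : ∃ b, (par b = false ∧ b ≠ zb4 ∧ b ≠ zc 4) ∧ act (q ⟨e, L.RN heR⟩) b = b := by
          exact one_class_fix _ hσ
        rcases hwu σ' hσ'.1 hσ'.2.1 hσ'.2.2 hfix with h | h
        · rwa [h] at hfix
        · exact fix_of_shift _ hσ w hw (h ▸ hfix)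
      obtain ⟨w', hw', hwe⟩ := hD w hw
      have hw'f : act (q ⟨e, L.RN heR⟩) w' = w' := by
        refine L.el_inj ?_
        rw [← hconj, ← hwe]
        calc el x * e * (y * el w * y⁻¹) * (el x * e)⁻¹
            = (y * (el x * e) * y⁻¹) * (y * el w * y⁻¹) * (y * (el x * e) * y⁻¹)⁻¹ := by rw [hyt']
          _ = y * ((el x * e) * el w * (el x * e)⁻¹) * y⁻¹ := by group
          _ = _ := by rw [hconj, hwfix]
      have hw'0 : w' ≠ zb4 := fun h => L.el_ne hw0 (by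
        rw [h, L.el_zero, conj_eq_one_iff] at hwe; exact hwe)
      have hw'z : w' ≠ zc 4 := fun h => hwz (L.el_inj (by
        rw [h, ← hz] at hwe; exact mul_left_cancel (mul_right_cancel hwe)))
      refine caseD w hw hw0 hwz ?_
      rcases hwu w' hw' hw'0 hw'z hw'f with h | h
      · exact Or.inl (by rw [hwe, h])
      · exact Or.inr (by rw [hwe, h, L.el_add])
  intro g hg
  obtain ⟨x', f, hx', hf, rfl⟩ := hg
  have hgQ : el x' * f ∈ qsub L M := ⟨x', f, hx', hf, rfl⟩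
  set g := el x' * f with hgdef
  set g' := y * g * y⁻¹ with hg'def
  have hgR := qsub_le L M hgQ
  have hact : ∀ b, par b = false → g' * el b * g'⁻¹ = g * el b * g⁻¹ := by
    intro b hb
    have hb' : g * el b * g⁻¹ = el (act (q ⟨g, L.RN hgR⟩) b) := L.act_of _ rfl b
    calc g' * el b * g'⁻¹ = g' * (y * el b * y⁻¹) * g'⁻¹ := by rw [hDfix b hb]
      _ = y * (g * el b * g⁻¹) * y⁻¹ := by rw [hg'def]; group
      _ = _ := by rw [hb', hDfix _ (by rw [act_par _ (mem_four.1 (L.qR _ hgR)), hb])]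
  have hcQ : g⁻¹ * g' ∈ qsub L M := mul_mem (inv_mem hgQ) (hQ _ hgQ)
  obtain ⟨c, k, hc, hk, hck⟩ := hcQ
  have hk1 : k = 1 := by
    obtain ⟨hkR, -, hkc⟩ := inE_facts L M hk
    by_contra hk1
    have hσ : q ⟨k, L.RN hkR⟩ = v1 ∨ q ⟨k, L.RN hkR⟩ = v2 ∨ q ⟨k, L.RN hkR⟩ = v3 := by
      rcases hkc with ⟨h, -⟩ | ⟨-, h⟩ | ⟨-, h⟩ | ⟨-, h⟩
      · exact absurd h hk1
      · exact Or.inl h
      · exact Or.inr (Or.inl h)
      · exact Or.inr (Or.inr h)
    obtain ⟨b, hb, hbne⟩ := even_faithful _ hσ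
    refine hbne (L.el_inj ?_)
    rw [← L.act_of (L.RN hkR) rfl]
    have h1 : el c * k * el b * (el c * k)⁻¹ = el b := by
      rw [← hck]
      calc g⁻¹ * g' * el b * (g⁻¹ * g')⁻¹ = g⁻¹ * (g' * el b * g'⁻¹) * g := by group
        _ = el b := by rw [hact b hb]; group
    calc k * el b * k⁻¹ = (el c)⁻¹ * (el c * k * el b * (el c * k)⁻¹) * el c := by group
      _ = el b := by rw [h1, mul_assoc, L.comm (L.el_mem b) (L.el_mem c), ← mul_assoc, inv_mul_cancel, one_mul]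
  rw [hk1, mul_one] at hck
  exact odd_fix hy (L.el_sq c) (hDfix c hc) (by rw [← hck, hg'def]; group)

end Lab

end CfsgLib.A8ThreeClass
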