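import Cfsg.Agent.Lib.A8ThreeClass.CentZ
import Cfsg.Agent.Lib.ZStar.Main

/-!
The centraliser of an involution of the orbit of ten.
-/

set_option autoImplicit false
set_option linter.style.haveILetI false
set_option linter.unusedSectionVars false

open Cfsg

namespace CfsgLib.A8ThreeClass

variable {G : Type*} [Group G] [Finite G]

theorem split_conj {A : Subgroup G} {a n : G} (hn : n ∈ Subgroup.normalizer (A : Set G)) (h : Split A a) :
    Split A (n * a * n⁻¹) := by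
  intro g hg
  have hg' : n⁻¹ * g * n ∈ Cn a := mem_Cn.2 (by
    have e := (mem_Cn.1 hg).eq
    show n⁻¹ * g * n * a = a * (n⁻¹ * g * n)
    calc n⁻¹ * g * n * a = n⁻¹ * (g * (n * a * n⁻¹)) * n := by group
      _ = n⁻¹ * ((n * a * n⁻¹) * g) * n := by rw [e]
      _ = _ := by group)
  obtain ⟨o, ho, m, hm, hma, e⟩ := h _ hg'
  refine ⟨n * o * n⁻¹, Oc_equiv n a ho, n * m * n⁻¹, mul_mem (mul_mem hn hm) (inv_mem hn),
    mem_Cn.2 ((mem_Cn.1 hma).map (MulAut.conj n).toMonoidHom), ?_⟩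
  calc g = n * (n⁻¹ * g * n) * n⁻¹ := by group
    _ = _ := by rw [e]; group

/-- the preimage of the core of a quotient by a central subgroup of order two -/
theorem core_lift {H : Subgroup G} {u : G} (Z : Subgroup H) [Z.Normal]
    (hZ : ∀ x : H, x ∈ Z ↔ (x : G) = 1 ∨ (x : G) = u) (hu : ∀ h ∈ H, h * u = u * h) {y : H}
    (hy : QuotientGroup.mk' Z y ∈ oddCore (H ⧸ Z)) :
    ∃ o ∈ Oi H, ∃ c, (c = 1 ∨ c = u) ∧ (y : G) = o * c := by
  haveI := Fact.mk Nat.prime_two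
  set MK : Subgroup H := (oddCore (H ⧸ Z)).comap (QuotientGroup.mk' Z) with hMK
  obtain ⟨P⟩ : Nonempty (Sylow 2 MK) := inferInstance
  have hP : ∀ p ∈ (P : Subgroup MK), ((p : H) : G) = 1 ∨ ((p : H) : G) = u := by
    intro p hp
    refine (hZ _).1 ((QuotientGroup.eq_one_iff (p : H)).1 (orderOf_one_of_two_group_odd ?_ ?_))
    · obtain ⟨j, hj⟩ := IsPGroup.iff_orderOf.1 P.2 ⟨p, hp⟩
      exact ⟨j, (orderOf_map_dvd ((QuotientGroup.mk' Z).comp MK.subtype) p).trans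
        (by rw [← Subgroup.orderOf_coe] at hj; rw [hj])⟩
    · exact (Nat.coprime_two_right.1 (Transfer.pPrimeCore_coprime 2)).of_dvd_nat
        (Subgroup.orderOf_dvd_natCard _ p.2)
  have hcen : Subgroup.normalizer ((P : Subgroup MK) : Set MK) ≤ Subgroup.centralizer ((P : Subgroup MK) : Set MK) := by
    intro n _ b hb
    refine Subtype.ext (Subtype.ext ?_)
    show ((b : H) : G) * ((n : H) : G) = ((n : H) : G) * ((b : H) : G)
    rcases hP b hb with h | h <;> rw [h]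
    · simp
    · exact (hu _ (n : H).2).symm
  obtain ⟨o, ho, p, hp, e⟩ := core_mul_sylow P hcen ⟨y, hy⟩
  refine ⟨((o : H) : G), ?_, _, hP p hp, congrArg (fun x : MK => ((x : H) : G)) e⟩
  have hsub : Oi (MK.map H.subtype) ≤ Oi H := by
    refine le_Oi ((Oi_le _).trans (Subgroup.map_subtype_le _)) (Oi_card_odd _) fun a ha x hx => ?_
    refine Oi_conj (mem_normalizer_of_conj ?_) hx
    rintro _ ⟨k, hk, rfl⟩
    exact ⟨⟨a, ha⟩ * k * ⟨a, ha⟩⁻¹, (inferInstance : MK.Normal).conj_mem k hk _, rfl⟩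
  refine hsub ?_
  let φ := MK.equivMapOfInjective H.subtype H.subtype_injective
  exact ⟨φ o, Transfer.le_pPrimeCore (N := (oddCore MK).map φ.toMonoidHom)
    (Subgroup.Normal.map (Transfer.pPrimeCore_normal 2 _) _ φ.surjective)
    (by rw [Subgroup.card_map_of_injective φ.injective]; exact Transfer.pPrimeCore_coprime 2) ⟨_, ho, rfl⟩, rfl⟩

namespace Lab

variable {A : Subgroup G} {R : Sylow 2 G} {q : ↥(Subgroup.normalizer (A : Set G)) →* Equiv.Perm (Fin 5)}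
  {el : B4 → G}

/-- **The centraliser of an involution of the orbit of ten splits.** -/
theorem split_u (L : Lab A R q el) (h3 : Nat.card {c : ConjClasses G // ∃ x ∈ c.carrier, orderOf x = 2} = 3)
    (hz : Split A (el (zc 0))) : Split A (el u01) := by
  haveI := Fact.mk Nat.prime_two
  set u := el u01 with hu
  set z₀ := el (zc 0) with hz₀
  set z₁ := el (zc 1) with hz₁
  have hu01 : u = z₀ * z₁ := L.el_add _ _
  have hz01 : z₀ * u = z₁ := by rw [hu01, ← mul_assoc, L.el_sq, one_mul]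
  have hu2 : u * u = 1 := L.el_sq _
  have hu1 : u ≠ 1 := L.el_ne par_facts.2.2.2.2.2.2
  set H := Cn u with hH
  have hAH : A ≤ H := L.A_le_Cn (L.el_mem _)
  have hz₀H : z₀ ∈ H := hAH (L.el_mem _)
  have hHu : ∀ h ∈ H, h * u = u * h := fun h hh => mem_Cn.1 hh
  have hHu' : ∀ h ∈ H, h * u * h⁻¹ = u := fun h hh => mul_inv_eq_iff_eq_mul.2 (hHu h hh)
  let Z : Subgroup H :=
    { carrier := {g | (g : G) = 1 ∨ (g : G) = u}
      one_mem' := Or.inl rfl
      mul_mem' := by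
        rintro a b (ha | ha) (hb | hb) <;> show (a : G) * b = 1 ∨ (a : G) * b = u <;> rw [ha, hb] <;>
          simp [hu2]
      inv_mem' := by
        rintro a (ha | ha) <;> show (a : G)⁻¹ = 1 ∨ (a : G)⁻¹ = u <;> rw [ha] <;>
          simp [inv_eq_of_mul_eq_one_right hu2] }
  haveI hZn : Z.Normal := ⟨fun a ha g => by
    show (g : G) * a * (g : G)⁻¹ = 1 ∨ (g : G) * a * (g : G)⁻¹ = u
    rcases ha with ha | ha <;> rw [ha]
    · left; group
    · right; exact hHu' g g.2⟩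
  let π : H →* H ⧸ Z := QuotientGroup.mk' Z
  have hπ1 : ∀ a : H, π a = 1 ↔ (a : G) = 1 ∨ (a : G) = u := fun a => QuotientGroup.eq_one_iff a
  have hπeq : ∀ a b : H, π a = π b ↔ (b : G) = a ∨ (b : G) = a * u := by
    intro a b
    rw [← inv_mul_eq_one, ← map_inv, ← map_mul, hπ1]
    constructor
    · rintro (h | h)
      · exact Or.inl (inv_mul_eq_one.1 h).symm
      · exact Or.inr (eq_mul_of_inv_mul_eq h)
    · rintro (h | h)
      · left; show (a : G)⁻¹ * b = 1; rw [h, inv_mul_cancel]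
      · right; show (a : G)⁻¹ * b = u; rw [h, inv_mul_cancel_left]
  -- isolation modulo the centre
  have hpair : ∀ h ∈ H, (z₀ * (h * z₀ * h⁻¹) * z₀⁻¹ = h * z₀ * h⁻¹ ∨
      z₀ * (h * z₀ * h⁻¹) * z₀⁻¹ = (h * z₀ * h⁻¹) * u) → h * z₀ * h⁻¹ = z₀ ∨ h * z₀ * h⁻¹ = z₀ * u := by
    intro h hh hc
    set t := h * z₀ * h⁻¹ with ht
    have ht2 : t * t = 1 := by
      rw [ht, show h * z₀ * h⁻¹ * (h * z₀ * h⁻¹) = h * (z₀ * z₀) * h⁻¹ by group, L.el_sq]; group
    have p2 : ∀ {x : G}, x * x = 1 → IsPGroup 2 ↥(Subgroup.zpowers x) := fun {x} hx => by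
      refine Transfer.isPGroup_zpowers ?_
      obtain ⟨j, -, hj⟩ := (Nat.dvd_prime_pow Nat.prime_two).1
        (orderOf_dvd_of_pow_eq_one (x := x) (n := 2 ^ 1) (by rw [pow_one, pow_two, hx]))
      exact ⟨j, hj⟩
    have htu : t * u = u * t := mem_Cn.1 (mul_mem (mul_mem hh hz₀H) (inv_mem hh))
    set P₁ := Subgroup.zpowers u ⊔ Subgroup.zpowers t with hP₁
    have hP₁2 : IsPGroup 2 P₁ := by
      refine IsPGroup.to_sup_of_normal_right' (p2 hu2) (p2 ht2) ?_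
      rw [Subgroup.zpowers_le]
      refine mem_normalizer_of_conj fun x hx => ?_
      obtain ⟨k, rfl⟩ := Subgroup.mem_zpowers_iff.1 hx
      rw [← ((show Commute t u from htu).zpow_left k).eq, mul_inv_cancel_right]
      exact Subgroup.zpow_mem_zpowers _ k
    have hz₀N : z₀ ∈ Subgroup.normalizer (P₁ : Set G) := by
      refine mem_normalizer_of_conj fun x hx => ?_
      have : P₁.map (MulAut.conj z₀).toMonoidHom ≤ P₁ := by
        rw [hP₁, Subgroup.map_sup, MonoidHom.map_zpowers, MonoidHom.map_zpowers, sup_le_iff,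
          Subgroup.zpowers_le, Subgroup.zpowers_le]
        refine ⟨?_, ?_⟩
        · show z₀ * u * z₀⁻¹ ∈ _
          rw [hHu' _ hz₀H]
          exact Subgroup.mem_sup_left (Subgroup.mem_zpowers u)
        · show z₀ * t * z₀⁻¹ ∈ _
          rcases hc with e | e <;> rw [e]
          · exact Subgroup.mem_sup_right (Subgroup.mem_zpowers t)
          · exact mul_mem (Subgroup.mem_sup_right (Subgroup.mem_zpowers t))
              (Subgroup.mem_sup_left (Subgroup.mem_zpowers u))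
      exact this ⟨x, hx, rfl⟩
    obtain ⟨k, hk⟩ := exists_conj_mem R (IsPGroup.to_sup_of_normal_right' (p2 (L.el_sq (zc 0))) hP₁2
      (Subgroup.zpowers_le.2 hz₀N))
    have inA : ∀ x ∈ A, ∀ g : G, k * (g * x * g⁻¹) * k⁻¹ ∈ (R : Subgroup G) →
        ∃ c, el c = k * (g * x * g⁻¹) * k⁻¹ := by
      intro x hx g hg
      have e : k * (g * x * g⁻¹) * k⁻¹ = (k * g) * x * (k * g)⁻¹ := by group
      refine (L.el_iff _).1 ?_
      rw [e] at hg ⊢
      exact L.strongly_closed h3 x hx _ hg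
    obtain ⟨a, ha⟩ := inA z₀ (L.el_mem _) 1 (by
      rw [show k * (1 * z₀ * 1⁻¹) * k⁻¹ = k * z₀ * k⁻¹ by group]
      exact hk _ (Subgroup.mem_sup_left (Subgroup.mem_zpowers _)))
    obtain ⟨b, hb⟩ := inA z₀ (L.el_mem _) h
      (hk _ (Subgroup.mem_sup_right (Subgroup.mem_sup_right (Subgroup.mem_zpowers _))))
    obtain ⟨c, hc'⟩ := inA u (L.el_mem _) 1 (by
      rw [show k * (1 * u * 1⁻¹) * k⁻¹ = k * u * k⁻¹ by group]
      exact hk _ (Subgroup.mem_sup_right (Subgroup.mem_sup_left (Subgroup.mem_zpowers _))))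
    have conjk : ∀ {x : B4} {v : G}, el x = k * v * k⁻¹ → IsConj v (el x) := fun {x v} e =>
      isConj_iff.2 ⟨k, e.symm⟩
    have ha' : isz a = true := by
      rw [← L.isz_fusion h3 (x := zc 0) (y := a) (isConj_iff.2 ⟨k * 1, by rw [ha, hz₀]; group⟩)]
      exact isz_zc 0
    have hb' : isz b = true := by
      rw [← L.isz_fusion h3 (x := zc 0) (y := b) (isConj_iff.2 ⟨k * h, by rw [hb, hz₀]; group⟩)]
      exact isz_zc 0
    have hcu : el c = k * u * k⁻¹ := by rw [hc']; group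
    have hc1 : isz c = false := by
      rw [← L.isz_fusion h3 (x := u01) (y := c) (conjk hcu)]
      exact par_facts.2.2.2.2.2.1
    have hac : isz (xr a c) = true := by
      rw [← L.isz_fusion h3 (x := zc 1) (y := xr a c)]
      · exact isz_zc 1
      · refine conjk ?_
        rw [L.el_add, ha, hcu, ← hz₁, ← hz01]; group
    have hbc : isz (xr b c) = true := by
      rw [← L.isz_fusion h3 (x := zc 1) (y := xr b c)]
      · exact isz_zc 1
      · refine isConj_iff.2 ⟨k * h, ?_⟩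
        rw [L.el_add, hb, hcu, ← hz₁, ← hz01]
        calc k * h * (z₀ * u) * (k * h)⁻¹ = k * (h * z₀ * h⁻¹) * k⁻¹ * (k * (h * u * h⁻¹) * k⁻¹) := by group
          _ = _ := by rw [hHu' h hh]
    have hc0 : c ≠ zb4 := fun e => hu1 (by
      rw [e, L.el_zero] at hcu
      exact conj_eq_one_iff.1 hcu.symm)
    rcases pair_unique a c b ha' hac hc0 hc1 hb' hbc with e | e
    · left
      rw [← e, ha] at hb
      exact (mul_left_cancel (mul_right_cancel hb)).symm.trans (by group)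
    · right
      rw [e, L.el_add, hb, hcu] at ha
      have h1 : k * (t * u) * k⁻¹ = k * z₀ * k⁻¹ := by
        calc k * (t * u) * k⁻¹ = k * t * k⁻¹ * (k * u * k⁻¹) := by group
          _ = _ := by rw [ha]; group
      have h2 := mul_left_cancel (mul_right_cancel h1)
      calc t = t * u * u := by rw [mul_assoc, hu2, mul_one]
        _ = z₀ * u := by rw [h2]
  have hiso : IsIsolatedInvolution (π ⟨z₀, hz₀H⟩) := by
    refine ⟨Invol.orderOf_two_of_mul_self ?_ ?_, fun g hg => ?_⟩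
    · rw [← map_mul, hπ1]; exact Or.inl (L.el_sq _)
    · rw [ne_eq, hπ1]
      rintro (h | h)
      · have e : zc 0 = zb4 := L.el_inj (h.trans L.el_zero.symm)
        have := congrArg isz e
        rw [isz_zc, misc_facts.2.2.2.2.1] at this
        exact Bool.noConfusion this
      · have := congrArg isz (L.el_inj (show el (zc 0) = el u01 from h))
        rw [isz_zc, par_facts.2.2.2.2.2.1] at this
        exact Bool.noConfusion this
    · obtain ⟨h, rfl⟩ := QuotientGroup.mk'_surjective Z g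
      rw [← map_inv, ← map_mul, ← map_mul] at hg ⊢
      have ez : ∀ a b : H, π (a * b * a⁻¹) = π a * π b * (π a)⁻¹ := fun a b => by
        rw [map_mul, map_mul, map_inv]
      have e1 : π (h * ⟨z₀, hz₀H⟩ * h⁻¹) = π (⟨z₀, hz₀H⟩ * (h * ⟨z₀, hz₀H⟩ * h⁻¹) * ⟨z₀, hz₀H⟩⁻¹) := by
        rw [ez ⟨z₀, hz₀H⟩ (h * ⟨z₀, hz₀H⟩ * h⁻¹), hg.eq, mul_inv_cancel_right]
      rw [eq_comm, hπeq]
      exact hpair h h.2 ((hπeq _ _).1 e1)
  have hgen : ∀ g ∈ H, ∃ p ∈ Oc u, ∃ h', h' ∈ H ∧ g = p * h' ∧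
      (h' * z₀ * h'⁻¹ = z₀ ∨ h' * z₀ * h'⁻¹ = z₀ * u) := by
    intro g hg
    have hmem := ZStar.commutatorsInCore_of_isolated hiso (π ⟨g, hg⟩)
    rw [← map_inv, ← map_inv, ← map_mul, ← map_mul, ← map_mul] at hmem
    obtain ⟨o, ho, c, hc, hoc⟩ := core_lift Z (fun x => Iff.rfl) hHu hmem
    have hoc' : z₀ * g * z₀⁻¹ * g⁻¹ = o * c := hoc
    have hzi : z₀⁻¹ = z₀ := L.el_inv _
    set s := z₀ * c with hs
    set o' := z₀ * o * z₀⁻¹ with ho'
    have hcu : c * c = 1 ∧ z₀ * c = c * z₀ := by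
      rcases hc with rfl | rfl
      · simp
      · exact ⟨hu2, hHu z₀ hz₀H⟩
    have hs2 : s * s = 1 := by
      rw [hs, show z₀ * c * (z₀ * c) = z₀ * (c * z₀) * c by group, ← hcu.2,
        show z₀ * (z₀ * c) * c = (z₀ * z₀) * (c * c) by group, L.el_sq, hcu.1, one_mul]
    have hgz : g * z₀ * g⁻¹ = o' * s := by
      calc g * z₀ * g⁻¹ = z₀⁻¹ * (z₀ * g * z₀⁻¹ * g⁻¹) := by
            conv_lhs => rw [← hzi]
            group
        _ = z₀⁻¹ * (o * c) := by rw [hoc']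
        _ = _ := by rw [ho', hs, hzi]; calc z₀ * (o * c) = z₀ * o * z₀⁻¹ * (z₀ * c) := by group
                                              _ = _ := by rw [hzi]
    have hp : ∃ p ∈ Oc u, p * s * p⁻¹ = o' * s := by
      refine inverted_conj (Oc_card_odd u) (Oc_conj hz₀H ho) hs2 ?_
      rw [← hgz, show g * z₀ * g⁻¹ * (g * z₀ * g⁻¹) = g * (z₀ * z₀) * g⁻¹ by group, L.el_sq]
      group
    obtain ⟨p, hp, hps⟩ := hp
    refine ⟨p, hp, p⁻¹ * g, mul_mem (inv_mem (Oc_le u hp)) hg, by rw [mul_inv_cancel_left], ?_⟩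
    have e : p⁻¹ * g * z₀ * (p⁻¹ * g)⁻¹ = s := by
      calc p⁻¹ * g * z₀ * (p⁻¹ * g)⁻¹ = p⁻¹ * (g * z₀ * g⁻¹) * p := by group
        _ = s := by rw [hgz, ← hps]; group
    rcases hc with rfl | rfl
    · exact Or.inl (e.trans (mul_one _))
    · exact Or.inr e
  obtain ⟨n, hn, hn0, hn1, hnu⟩ := L.conj_pair (show (0 : Fin 5) ≠ 1 by decide) (show (1 : Fin 5) ≠ 0 by decide)
  have hnz₀ : n * z₀ * n⁻¹ = z₁ := by rw [L.act_of hn rfl, act_zc _ (L.q_sign _), hn0]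
  have hnu' : n * u * n⁻¹ = u := by
    rw [hu, u01, hnu, (xr_facts (zc 1) (zc 0)).2.2.1]
  have hnH : n ∈ H := mem_Cn.2 (mul_inv_eq_iff_eq_mul.1 hnu')
  have hgen2 : ∀ g ∈ H, ∃ p ∈ Oc u, ∃ ν, ν ∈ Subgroup.normalizer (A : Set G) ∧ ν ∈ H ∧
      (ν * z₀ * ν⁻¹ = z₀ ∨ ν * z₀ * ν⁻¹ = z₁) ∧ ∃ c ∈ Cn u ⊓ Cn z₀, g = p * (ν * c) := by
    intro g hg
    obtain ⟨p, hp, h', hh', e, he⟩ := hgen g hg
    rcases he with he | he
    · exact ⟨p, hp, 1, one_mem _, one_mem _, Or.inl (by group), h', Subgroup.mem_inf.2 ⟨hh', mem_Cn.2 (mul_inv_eq_iff_eq_mul.1 he)⟩,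
        by rw [one_mul, e]⟩
    · refine ⟨p, hp, n, hn, hnH, Or.inr hnz₀, n⁻¹ * h', Subgroup.mem_inf.2 ⟨mul_mem (inv_mem hnH) hh', mem_Cn.2 ?_⟩,
        by rw [mul_inv_cancel_left, e]⟩
      show n⁻¹ * h' * z₀ = z₀ * (n⁻¹ * h')
      rw [hz01] at he
      calc n⁻¹ * h' * z₀ = n⁻¹ * (h' * z₀ * h'⁻¹) * h' := by group
        _ = n⁻¹ * (n * z₀ * n⁻¹) * h' := by rw [he, hnz₀]
        _ = _ := by group
  have hVO : Oi (Cn u ⊓ Cn z₀) ≤ Oc u := by
    refine core_absorb (H := Cn u) ((Oi_le _).trans inf_le_left) (Oi_card_odd _) fun g hg => ?_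
    obtain ⟨p, hp, ν, -, hνH, hν, c, hc, e⟩ := hgen2 g hg
    refine ⟨p, hp, ν * c, mul_mem hνH hc.1, e, fun x hx => Oi_conj (mem_normalizer_of_conj fun y hy => ?_) hx⟩
    have hcy : c * y * c⁻¹ ∈ Cn u ⊓ Cn z₀ := mul_mem (mul_mem hc hy) (inv_mem hc)
    rw [show ν * c * y * (ν * c)⁻¹ = ν * (c * y * c⁻¹) * ν⁻¹ by group]
    refine Subgroup.mem_inf.2 ⟨mul_mem (mul_mem hνH hcy.1) (inv_mem hνH), ?_⟩
    have h1 : ν * (c * y * c⁻¹) * ν⁻¹ ∈ Cn (ν * z₀ * ν⁻¹) :=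
      mem_Cn.2 ((mem_Cn.1 hcy.2).map (MulAut.conj ν).toMonoidHom)
    rcases hν with h | h <;> rw [h] at h1
    · exact h1
    · refine mem_Cn.2 ?_
      have h2 : ν * (c * y * c⁻¹) * ν⁻¹ ∈ Cn u := mul_mem (mul_mem hνH hcy.1) (inv_mem hνH)
      have h3' := (mem_Cn.1 h1).mul_right (mem_Cn.1 h2)
      have ez1 : z₁ * u = z₀ := by rw [← hz01, mul_assoc, hu2, mul_one]
      rwa [ez1] at h3'
  intro g hg
  obtain ⟨p, hp, ν, hνN, hνH, -, c, hc, e⟩ := hgen2 g hg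
  obtain ⟨o, ho, m, hm, hmz, hom⟩ := hz c hc.2
  have hmu : m ∈ Cn u := by
    refine mem_Cn.2 (mul_inv_eq_iff_eq_mul.1 ?_)
    set a := m * u * m⁻¹ with ha
    have haA : a ∈ A := (Subgroup.mem_normalizer_iff.1 hm u).1 (L.el_mem _)
    have h1 : o * a * o⁻¹ = u := by
      rw [ha]
      calc o * (m * u * m⁻¹) * o⁻¹ = (o * m) * u * (o * m)⁻¹ := by group
        _ = u := by rw [← hom]; exact hHu' c hc.1
    have h2 : o * (a * o⁻¹ * a⁻¹) ∈ Oc z₀ := mul_mem ho (Oc_conj (L.A_le_Cn (L.el_mem _) haA) (inv_mem ho))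
    have h3' : u * a⁻¹ ∈ Oc z₀ := by
      rw [← h1]
      convert h2 using 1
      group
    have h4 : u * a⁻¹ = 1 :=
      Invol.eq_one_of_odd_of_sq (odd_of_mem (Oc_card_odd _) h3') (L.h2 _ (mul_mem (L.el_mem _) (inv_mem haA)))
    exact (mul_inv_eq_one.1 h4).symm
  have hou : o ∈ Cn u := by
    have : o = c * m⁻¹ := by rw [hom, mul_inv_cancel_right]
    rw [this]; exact mul_mem hc.1 (inv_mem hmu)
  have hoV : o ∈ Oi (Cn u ⊓ Cn z₀) := by
    refine (le_Oi (U := Oc z₀ ⊓ Cn u) (fun x hx => Subgroup.mem_inf.2 ⟨hx.2, Oc_le _ hx.1⟩)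
      ((Oc_card_odd z₀).of_dvd_nat (Subgroup.card_dvd_of_le inf_le_left)) fun a ha x hx => ?_) (Subgroup.mem_inf.2 ⟨ho, hou⟩)
    exact Subgroup.mem_inf.2 ⟨Oc_conj ha.2 hx.1, mul_mem (mul_mem ha.1 hx.2) (inv_mem ha.1)⟩
  refine ⟨p * (ν * o * ν⁻¹), mul_mem hp (Oc_conj hνH (hVO hoV)), ν * m, mul_mem hνN hm, mul_mem hνH hmu, ?_⟩
  rw [e, hom]; group

theorem split_all (L : Lab A R q el) (h3 : Nat.card {c : ConjClasses G // ∃ x ∈ c.carrier, orderOf x = 2} = 3)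
    (h64 : Nat.card (R : Subgroup G) = 64) : ∀ a ∈ A, a ≠ 1 → Split A a := by
  intro a ha ha1
  have hzs : ∀ i, Split A (el (zc i)) := fun i => by
    obtain ⟨n, hn, e⟩ := L.conj_zc 4 i
    rw [← e]; exact split_conj hn (L.split_z h3 h64)
  obtain ⟨x, rfl⟩ := (L.el_iff a).1 ha
  rcases classify x with rfl | ⟨i, rfl⟩ | ⟨i, j, hij, rfl⟩
  · exact absurd L.el_zero ha1
  · exact hzs i
  · obtain ⟨n, hn, -, -, e⟩ := L.conj_pair (show (0 : Fin 5) ≠ 1 by decide) hij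
    rw [← e]; exact split_conj hn (L.split_u h3 (hzs 0))

end Lab

end CfsgLib.A8ThreeClass
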