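import Cfsg.Agent.Lib.A8ThreeClass.CentSub
import Cfsg.Agent.Lib.Transfer.Thompson
import Cfsg.Agent.Lib.Transfer.Focal

/-!
The centraliser of the central involution.
-/

set_option autoImplicit false
set_option linter.style.haveILetI false
set_option linter.unusedSectionVars false

open Cfsg

namespace CfsgLib.A8ThreeClass

variable {G : Type*} [Group G] [Finite G]

/-- an element whose order is odd and divides a power of two is trivial -/
theorem orderOf_one_of_two_group_odd {K : Type*} [Group K] {x : K} (h : ∃ j : ℕ, orderOf x ∣ 2 ^ j)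
    (ho : Odd (orderOf x)) : x = 1 := by
  obtain ⟨j, hj⟩ := h
  exact orderOf_eq_one_iff.1 (Nat.eq_one_of_dvd_coprimes ((Nat.coprime_two_right.2 ho).pow_right j)
    dvd_rfl hj)

/-- a normalised subgroup of odd order is absorbed by the core -/
theorem core_absorb {H U : Subgroup G} (hU : U ≤ H) (ho : Odd (Nat.card U))
    (hgen : ∀ g ∈ H, ∃ o ∈ Oi H, ∃ m ∈ H, g = o * m ∧ ∀ u ∈ U, m * u * m⁻¹ ∈ U) : U ≤ Oi H := by
  set U' := U.subgroupOf H
  set O' := oddCore ↥H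
  haveI hO' : O'.Normal := Transfer.pPrimeCore_normal 2 _
  have hJ : (U' ⊔ O').Normal := by
    refine ⟨fun x hx g => ?_⟩
    have hle : (U' ⊔ O').map (MulAut.conj g).toMonoidHom ≤ U' ⊔ O' := by
      rw [Subgroup.map_sup, sup_le_iff]
      constructor
      · rintro _ ⟨u, hu, rfl⟩
        obtain ⟨o, ⟨o', ho', rfl⟩, m, hm, hg, hmU⟩ := hgen g g.2
        have he : g * u * g⁻¹ = o' * (⟨m, hm⟩ * u * ⟨m, hm⟩⁻¹) * o'⁻¹ := by
          refine Subtype.ext ?_
          show (g : G) * u * (g : G)⁻¹ = (o' : G) * (m * u * m⁻¹) * (o' : G)⁻¹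
          rw [hg]
          show (o' : G) * m * u * ((o' : G) * m)⁻¹ = _
          group
        show g * u * g⁻¹ ∈ _
        rw [he]
        have ho'' : o' ∈ U' ⊔ O' := Subgroup.mem_sup_right ho'
        exact mul_mem (mul_mem ho'' (Subgroup.mem_sup_left (hmU _ hu))) (inv_mem ho'')
      · rintro _ ⟨u, hu, rfl⟩
        exact Subgroup.mem_sup_right (hO'.conj_mem u hu g)
    exact hle ⟨x, hx, rfl⟩
  have hJo : (Nat.card ↥(U' ⊔ O')).Coprime 2 := by
    refine Nat.Coprime.coprime_dvd_left (SelfCent.card_sup_dvd_mul U' O') (Nat.Coprime.mul_left ?_ ?_)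
    · rw [Nat.card_congr (Subgroup.subgroupOfEquivOfLe hU).toEquiv]
      exact Nat.coprime_two_right.2 ho
    · exact Transfer.pPrimeCore_coprime 2
  intro u hu
  exact ⟨⟨u, hU hu⟩, Transfer.le_pPrimeCore hJ hJo (Subgroup.mem_sup_left hu), rfl⟩

/-- a Sylow 2-subgroup which is central gives the group as a product with the core -/
theorem core_mul_sylow {K : Type*} [Group K] [Finite K] (P : Sylow 2 K)
    (h : Subgroup.normalizer ((P : Subgroup K) : Set K) ≤ Subgroup.centralizer ((P : Subgroup K) : Set K)) :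
    ∀ g : K, ∃ o ∈ oddCore K, ∃ p ∈ (P : Subgroup K), g = o * p := by
  haveI := Fact.mk Nat.prime_two
  obtain ⟨N₀, hN₀, hcp⟩ := (Transfer.hasNormalPComplement_iff_forall_sylow P).1
    (Transfer.hasNormalPComplement_of_normalizer_le_centralizer P h)
  haveI := hN₀
  intro g
  obtain ⟨o, ho, p, hp, e⟩ := Subgroup.mem_sup_of_normal_left.1
    (show g ∈ N₀ ⊔ (P : Subgroup K) from hcp.sup_eq_top ▸ Subgroup.mem_top g)
  exact ⟨o, Transfer.le_pPrimeCore hN₀ (Transfer.coprime_card_of_isComplement' hcp) ho, p, hp, e.symm⟩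

namespace Lab

variable {A : Subgroup G} {R : Sylow 2 G} {q : ↥(Subgroup.normalizer (A : Set G)) →* Equiv.Perm (Fin 5)}
  {el : B4 → G}

theorem R_le_Cz (L : Lab A R q el) : (R : Subgroup G) ≤ Cn (el (zc 4)) := by
  intro r hr
  have h := L.act_of (L.RN hr) rfl (zc 4)
  rw [act_zc _ (L.q_sign _), (four_fix _ (mem_four.1 (L.qR r hr))).1] at h
  exact mem_Cn.2 (mul_inv_eq_iff_eq_mul.1 h)

theorem A_le_Cn (L : Lab A R q el) {a : G} (ha : a ∈ A) : A ≤ Cn a := fun _ hb => mem_Cn.2 (L.comm hb ha)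

/-- the elements of the centraliser act inside it -/
theorem fix_four_mem (L : Lab A R q el) {m : G} (hm : m ∈ Subgroup.normalizer (A : Set G))
    (h4 : q ⟨m, hm⟩ 4 = 4) : m ∈ Cn (el (zc 4)) := by
  have h := L.act_of hm rfl (zc 4)
  rw [act_zc _ (L.q_sign _), h4] at h
  exact mem_Cn.2 (mul_inv_eq_iff_eq_mul.1 h)

/-- a normal subgroup of index two of the centraliser meeting the Sylow subgroup in `qsub` -/
structure Half (L : Lab A R q el) {s₁ s₂ : G} (M : Lifts L s₁ s₂) (W : Subgroup G) : Prop where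
  le : W ≤ Cn (el (zc 4))
  mul : ∀ a ∈ Cn (el (zc 4)), ∀ b ∈ Cn (el (zc 4)), (a * b ∈ W ↔ (a ∈ W ↔ b ∈ W))
  out : el (xr (zc 0) (zc 4)) ∉ W
  sub : qsub L M ≤ W
  inf : ∀ r ∈ (R : Subgroup G), r ∈ W → r ∈ qsub L M

theorem exists_half (L : Lab A R q el) {s₁ s₂ : G} (M : Lifts L s₁ s₂)
    (h3 : Nat.card {c : ConjClasses G // ∃ x ∈ c.carrier, orderOf x = 2} = 3) : ∃ W, Half L M W := by
  haveI := Fact.mk Nat.prime_two
  set z := el (zc 4) with hz
  set H := Cn z with hH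
  have hRH : (R : Subgroup G) ≤ H := L.R_le_Cz
  set P : Sylow 2 H := R.subtype hRH with hP
  have hidx : ((qsub L M).subgroupOf H).relIndex (P : Subgroup H) = 2 := by
    rw [hP, Sylow.coe_subtype, Subgroup.relIndex_subgroupOf hRH, qsub_index]
  set u := el (xr (zc 0) (zc 4)) with hu
  have huR : u ∈ (R : Subgroup G) := L.AR (L.el_mem _)
  have huQ : u ∉ qsub L M := fun h => by
    have := qsub_inf L M h (L.el_mem _)
    rw [hu, L.el_mem_dsub, par_facts.2.1] at this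
    exact Bool.noConfusion this
  rcases Transfer.thompson_transfer P hidx (u := ⟨u, hRH huR⟩) (Subtype.ext (L.el_sq _)) huR huQ with
    ⟨W', hW', hW2, huW⟩ | ⟨g, -, hgQ⟩
  swap
  · exfalso
    set v := (g : G) * u * (g : G)⁻¹ with hv
    have hvQ : v ∈ qsub L M := hgQ
    obtain ⟨x, hx, hxv⟩ := qsub_inf L M hvQ (L.strongly_closed h3 _ (L.el_mem _) g (qsub_le L M hvQ))
    have h1 : isz x = false := by
      rw [L.isz_fusion h3 (x := x) (y := xr (zc 0) (zc 4))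
        (by rw [hxv]; exact (isConj_iff.2 ⟨g, rfl⟩ : IsConj u v).symm)]
      exact par_facts.2.2.2.1
    have h2 : isz (xr x (zc 4)) = true := by
      rw [← isz_zc 0]
      refine L.isz_fusion h3 (IsConj.symm (isConj_iff.2 ⟨g, ?_⟩))
      have hgz : (g : G) * z * (g : G)⁻¹ = z := mul_inv_eq_iff_eq_mul.2 (mem_Cn.1 g.2)
      rw [L.el_add, hxv, ← hz, ← par_facts.2.2.2.2.1, L.el_add, ← hu, ← hz, hv]
      calc (g : G) * (u * z) * (g : G)⁻¹ = (g : G) * u * (g : G)⁻¹ * ((g : G) * z * (g : G)⁻¹) := by group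
        _ = _ := by rw [hgz]
    have hx0 : x ≠ zb4 := fun h => by
      rw [h, L.el_zero, hv, eq_comm, conj_eq_one_iff] at hxv
      exact huQ (hxv ▸ one_mem _)
    have hxz : x ≠ zc 4 := fun h => by rw [h, isz_zc] at h1; exact Bool.noConfusion h1
    rw [((par_char x hx0 hxz).1 hx).2] at h2
    exact Bool.noConfusion h2
  set W := W'.map H.subtype with hWdef
  have hWH : W ≤ H := Subgroup.map_subtype_le _
  have hmemW : ∀ (a : G) (ha : a ∈ H), a ∈ W ↔ (⟨a, ha⟩ : H) ∈ W' := fun a ha =>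
    ⟨fun ⟨y, hy, e⟩ => (Subtype.ext e : y = ⟨a, ha⟩) ▸ hy, fun h => ⟨_, h, rfl⟩⟩
  have hmul : ∀ a ∈ H, ∀ b ∈ H, (a * b ∈ W ↔ (a ∈ W ↔ b ∈ W)) := by
    intro a ha b hb
    rw [hmemW _ (mul_mem ha hb), hmemW _ ha, hmemW _ hb]
    exact Subgroup.mul_mem_iff_of_index_two hW2 (a := ⟨a, ha⟩) (b := ⟨b, hb⟩)
  have hconj : ∀ g ∈ H, ∀ a ∈ H, (g * a * g⁻¹ ∈ W ↔ a ∈ W) := by
    intro g hg a ha
    rw [hmul _ (mul_mem hg ha) _ (inv_mem hg), hmul _ hg _ ha, inv_mem_iff]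
    tauto
  have huW' : u ∉ W := fun h => huW ((hmemW _ _).1 h)
  have invW : ∀ r, ∀ hr : r ∈ (R : Subgroup G), r ∉ A → r * r = 1 → r ∈ W := by
    obtain ⟨h₁, h₂, -⟩ : s₁ ∉ A ∧ s₂ ∉ A ∧ s₁ * s₂ ∉ A := by
      have key : ∀ e (he : InE L s₁ s₂ e), q ⟨e, L.RN (inE_R L M he)⟩ ≠ 1 → e ∉ A := fun e he hne hA =>
        hne (L.q_A hA)
      refine ⟨key _ (Or.inr (Or.inl rfl)) ?_, key _ (Or.inr (Or.inr (Or.inl rfl))) ?_,
        key _ (Or.inr (Or.inr (Or.inr rfl))) ?_⟩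
      · rw [M.q₁]; exact misc_facts.2.1
      · rw [M.q₂]; exact misc_facts.2.2.1
      · show q (⟨s₁, L.RN M.h₁⟩ * ⟨s₂, L.RN M.h₂⟩) ≠ 1
        rw [map_mul, M.q₁, M.q₂, misc_facts.1]; exact misc_facts.2.2.2.1
    obtain ⟨he3R, he32, he3⟩ := inE_facts L M (e := s₁ * s₂) (Or.inr (Or.inr (Or.inr rfl)))
    have h12 : s₁ * s₂ ∉ A := fun hA => by
      have h := L.q_A hA
      have h' : q (⟨s₁, L.RN M.h₁⟩ * ⟨s₂, L.RN M.h₂⟩) = 1 := h
      rw [map_mul, M.q₁, M.q₂, misc_facts.1] at h'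
      exact misc_facts.2.2.2.1 h'
    have same : ∀ r, ∀ hr : r ∈ (R : Subgroup G), r ∉ A → r * r = 1 → (r ∈ W ↔ s₁ ∈ W) := by
      intro r hr hrA hr2
      obtain ⟨m, hm, hm4, hme⟩ := L.outside_conj M.h₁ h₁ M.sq₁ hr hrA hr2
      rw [← hme]
      exact hconj m (L.fix_four_mem hm hm4) s₁ (hRH M.h₁)
    have hs : s₁ ∈ W := by
      have e1 := same _ M.h₂ h₂ M.sq₂
      have e3 := same _ he3R h12 he32
      rw [hmul _ (hRH M.h₁) _ (hRH M.h₂)] at e3
      tauto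
    exact fun r hr hrA hr2 => (same r hr hrA hr2).2 hs
  have hsubE : ∀ e, InE L s₁ s₂ e → e ∈ W := by
    intro e he
    obtain ⟨heR, he2, hc⟩ := inE_facts L M he
    by_cases heA : e ∈ A
    · rcases hc with ⟨h, -⟩ | ⟨-, h⟩ | ⟨-, h⟩ | ⟨-, h⟩
      · rw [h]; exact one_mem _
      · exact absurd ((L.q_A heA).symm.trans h) misc_facts.2.1.symm
      · exact absurd ((L.q_A heA).symm.trans h) misc_facts.2.2.1.symm
      · exact absurd ((L.q_A heA).symm.trans h) misc_facts.2.2.2.1.symm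
    · exact invW e heR heA he2
  have hsubD : ∀ x, par x = false → el x ∈ W := by
    intro x hx
    obtain ⟨σ, hσ, hfix⟩ := cover_fix x hx
    obtain ⟨r, hr, hrq⟩ := L.qR_surj σ (mem_four.2 (Or.inr hσ))
    obtain ⟨-, y, hy⟩ := fixed_comm σ hσ x hfix
    rw [← hy, L.el_add, ← L.act_of (L.RN hr) hrq]
    have hyH : el y ∈ H := hRH (L.AR (L.el_mem y))
    rw [hmul _ hyH _ (mul_mem (mul_mem (hRH hr) hyH) (inv_mem (hRH hr))), hconj _ (hRH hr) _ hyH]
  refine ⟨W, hWH, hmul, huW', ?_, ?_⟩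
  · rintro g ⟨x, e, hx, he, rfl⟩
    exact mul_mem (hsubD x hx) (hsubE e he)
  · intro r hr hrW
    obtain ⟨x, e, he, rfl⟩ := decomp L M hr
    refine (el_mem_qsub L M he).2 ?_
    by_contra hx
    rw [Bool.not_eq_false] at hx
    have hw : el (xr x (xr (zc 0) (zc 4))) ∈ W := hsubD _ (by rw [par_add, hx, par_facts.2.1]; rfl)
    have hxW : el x ∈ W := by
      have := mul_mem hrW (inv_mem (hsubE e he))
      simpa using this
    refine huW' ?_
    have := mul_mem (inv_mem hxW) hw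
    rwa [L.el_inv, ← L.el_add, ← xr_assoc, (xr_facts x x).1, (xr_facts zb4 _).2.2.1, (xr_facts _ x).2.1] at this

namespace Half

variable {L : Lab A R q el} {s₁ s₂ : G} {M : Lifts L s₁ s₂} {W : Subgroup G} (hW : Half L M W)
include hW

theorem conj_mem {g a : G} (hg : g ∈ Cn (el (zc 4))) (ha : a ∈ W) : g * a * g⁻¹ ∈ W := by
  rw [hW.mul _ (mul_mem hg (hW.le ha)) _ (inv_mem hg), hW.mul _ hg _ (hW.le ha), inv_mem_iff]
  tauto

/-- the 2-subgroups are conjugate into the maximal subgroup -/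
theorem exists_conj {P : Subgroup G} (hP : IsPGroup 2 P) (hPW : P ≤ W) :
    ∃ h ∈ Cn (el (zc 4)), ∀ x ∈ P, h * x * h⁻¹ ∈ qsub L M := by
  haveI := Fact.mk Nat.prime_two
  have hRH := L.R_le_Cz
  obtain ⟨T, hT⟩ := (hP.comap_subtype (K := Cn (el (zc 4)))).exists_le_sylow
  obtain ⟨h, hh⟩ := MulAction.exists_smul_eq (Cn (el (zc 4))) T (R.subtype hRH)
  refine ⟨h, h.2, fun x hx => hW.inf _ ?_ (hW.conj_mem h.2 (hPW hx))⟩
  have h1 : h * ⟨x, hW.le (hPW hx)⟩ * h⁻¹ ∈ (R.subtype hRH : Subgroup (Cn (el (zc 4)))) := by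
    rw [← hh]; exact ⟨_, hT hx, rfl⟩
  exact h1

/-- the maximal subgroup is a Sylow subgroup -/
theorem exists_sylow : ∃ T : Sylow 2 W, (T : Subgroup W) = (qsub L M).subgroupOf W := by
  haveI := Fact.mk Nat.prime_two
  obtain ⟨T, hT⟩ := ((R.2.to_le (qsub_le L M)).comap_subtype (K := W)).exists_le_sylow
  refine ⟨T, (Subgroup.eq_of_le_of_card_ge hT ?_).symm⟩
  obtain ⟨h, -, hh⟩ := hW.exists_conj (T.2.map W.subtype) (Subgroup.map_subtype_le _)
  let f : ↥(T : Subgroup W) → ↥((qsub L M).subgroupOf W) := fun x =>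
    ⟨⟨h * ((x : W) : G) * h⁻¹, hW.sub (hh _ ⟨x, x.2, rfl⟩)⟩, hh _ ⟨x, x.2, rfl⟩⟩
  exact Nat.card_le_card_of_injective f fun a b e => Subtype.ext (Subtype.ext
    (mul_left_cancel (mul_right_cancel (congrArg (fun z : ↥((qsub L M).subgroupOf W) => ((z : W) : G)) e))))

/-- **The half of the centraliser is covered by the core and the normaliser of the even vectors.** -/
theorem cover (h3 : Nat.card {c : ConjClasses G // ∃ x ∈ c.carrier, orderOf x = 2} = 3)
    (h64 : Nat.card (R : Subgroup G) = 64) :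
    ∀ g ∈ W, ∃ o ∈ Oc (el (zc 4)), ∃ m ∈ W, g = o * m ∧ ∀ d ∈ L.dsub, m * d * m⁻¹ ∈ L.dsub := by
  haveI := Fact.mk Nat.prime_two
  set z := el (zc 4) with hz
  have hzQ : z ∈ qsub L M := dsub_le_qsub L M L.z_dsub
  have hzW : z ∈ W := hW.sub hzQ
  have hz2 : z * z = 1 := L.el_sq _
  have hz1 : z ≠ 1 := L.el_ne misc_facts.2.2.2.2.2.2.1
  let Z : Subgroup W :=
    { carrier := {g | (g : G) = 1 ∨ (g : G) = z}
      one_mem' := Or.inl rfl
      mul_mem' := by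
        rintro a b (ha | ha) (hb | hb) <;> show (a : G) * b = 1 ∨ (a : G) * b = z <;> rw [ha, hb] <;>
          simp [hz2]
      inv_mem' := by
        rintro a (ha | ha) <;> show (a : G)⁻¹ = 1 ∨ (a : G)⁻¹ = z <;> rw [ha] <;>
          simp [inv_eq_of_mul_eq_one_right hz2] }
  have hcz : ∀ g ∈ W, g * z * g⁻¹ = z := fun g hg => mul_inv_eq_iff_eq_mul.2 (mem_Cn.1 (hW.le hg))
  haveI hZn : Z.Normal := ⟨fun a ha g => by
    show (g : G) * a * (g : G)⁻¹ = 1 ∨ (g : G) * a * (g : G)⁻¹ = z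
    rcases ha with ha | ha <;> rw [ha]
    · left; group
    · right; exact hcz g g.2⟩
  let π : W →* W ⧸ Z := QuotientGroup.mk' Z
  have hπ : Function.Surjective π := QuotientGroup.mk'_surjective Z
  have hπ1 : ∀ a : W, π a = 1 ↔ (a : G) = 1 ∨ (a : G) = z := fun a => QuotientGroup.eq_one_iff a
  have hπeq : ∀ a b : W, π a = π b ↔ (b : G) = a ∨ (b : G) = a * z := by
    intro a b
    rw [← inv_mul_eq_one, ← map_inv, ← map_mul, hπ1]
    constructor
    · rintro (h | h)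
      · exact Or.inl (inv_mul_eq_one.1 h).symm
      · exact Or.inr (eq_mul_of_inv_mul_eq h)
    · rintro (h | h)
      · left; show (a : G)⁻¹ * b = 1; rw [h, inv_mul_cancel]
      · right; show (a : G)⁻¹ * b = z; rw [h, inv_mul_cancel_left]
  obtain ⟨T, hT⟩ := hW.exists_sylow
  let Tb : Sylow 2 (W ⧸ Z) := T.mapSurjective hπ
  have hTb : (Tb : Subgroup (W ⧸ Z)) = ((qsub L M).subgroupOf W).map π := by
    rw [← hT]; rfl
  have lift : ∀ a ∈ (Tb : Subgroup (W ⧸ Z)), ∃ t, ∃ ht : t ∈ qsub L M, a = π ⟨t, hW.sub ht⟩ := by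
    intro a ha
    rw [hTb] at ha
    obtain ⟨t, ht, rfl⟩ := ha
    exact ⟨t, ht, rfl⟩
  have back : ∀ a : W, π a ∈ (Tb : Subgroup (W ⧸ Z)) → (a : G) ∈ qsub L M := by
    intro a ha
    obtain ⟨t, ht, he⟩ := lift _ ha
    rcases (hπeq _ _).1 he.symm with h | h <;> rw [h]
    · exact ht
    · exact mul_mem ht hzQ
  have fwd : ∀ t (ht : t ∈ qsub L M), π ⟨t, hW.sub ht⟩ ∈ (Tb : Subgroup (W ⧸ Z)) := fun t ht => by
    rw [hTb]; exact ⟨⟨t, hW.sub ht⟩, ht, rfl⟩
  have h2 : ∀ a ∈ (Tb : Subgroup (W ⧸ Z)), a * a = 1 := by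
    intro a ha
    obtain ⟨t, ht, rfl⟩ := lift a ha
    rw [← map_mul, hπ1]
    exact qsub_sq L M ht
  have hcard : 8 ≤ Nat.card (Tb : Subgroup (W ⧸ Z)) := by
    have hQc : Nat.card ((qsub L M).subgroupOf W) = 32 := by
      rw [Nat.card_congr (Subgroup.subgroupOfEquivOfLe hW.sub).toEquiv]
      have h := ((qsub L M).subgroupOf (R : Subgroup G)).card_mul_index
      rw [Nat.card_congr (Subgroup.subgroupOfEquivOfLe (qsub_le L M)).toEquiv,
        show ((qsub L M).subgroupOf (R : Subgroup G)).index = 2 from qsub_index L M, h64] at h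
      omega
    let g := π.comp ((qsub L M).subgroupOf W).subtype
    have hr : g.range = ((qsub L M).subgroupOf W).map π := by
      rw [MonoidHom.range_comp, Subgroup.range_subtype]
    have h1 := g.ker.card_mul_index
    rw [Subgroup.index_ker, hr, ← hTb, hQc] at h1
    have hk : Nat.card g.ker ≤ 2 := by
      classical
      let f : g.ker → ({1, z} : Finset G) := fun a => ⟨((a : ↥((qsub L M).subgroupOf W)) : W), by
        have := (hπ1 _).1 a.2
        simpa [Finset.mem_insert] using this⟩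
      have hf : Function.Injective f := fun a b e => Subtype.ext (Subtype.ext (Subtype.ext
        (congrArg (fun u : ({1, z} : Finset G) => (u : G)) e)))
      have hle := Nat.card_le_card_of_injective f hf
      rw [Nat.card_eq_fintype_card (α := ({1, z} : Finset G)), Fintype.card_coe] at hle
      exact hle.trans Finset.card_le_two
    nlinarith
  -- an element of odd order over a given one
  have oddLift : ∀ n : W ⧸ Z, Odd (orderOf n) → ∃ y : W, π y = n ∧ Odd (orderOf y) := by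
    intro n hn
    obtain ⟨w, rfl⟩ := hπ n
    set N := orderOf (π w) with hN
    refine ⟨w ^ (N + 1), by rw [map_pow, pow_succ, hN, pow_orderOf_eq_one, one_mul], ?_⟩
    refine hn.of_dvd_nat (orderOf_dvd_of_pow_eq_one ?_)
    obtain ⟨k, hk⟩ := hn
    have hwN : (w : G) ^ N = 1 ∨ (w : G) ^ N = z := by
      have : π (w ^ N) = 1 := by rw [map_pow, hN, pow_orderOf_eq_one]
      exact (hπ1 _).1 this
    refine Subtype.ext ?_
    show ((w : G) ^ (N + 1)) ^ N = 1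
    rw [← pow_mul, mul_comm (N + 1), pow_mul, show N + 1 = 2 * (k + 1) by omega, pow_mul]
    rcases hwN with h | h <;> rw [h]
    · simp
    · rw [pow_two, hz2, one_pow]
  have hfix : ∀ a ∈ (Tb : Subgroup (W ⧸ Z)), a ≠ 1 → ∀ n ∈ Subgroup.normalizer ((Tb : Subgroup (W ⧸ Z)) : Set (W ⧸ Z)),
      n * a = a * n → ∀ b ∈ (Tb : Subgroup (W ⧸ Z)), n * b = b * n := by
    intro a ha ha1 n hn hna
    set C := Subgroup.centralizer ((Tb : Subgroup (W ⧸ Z)) : Set (W ⧸ Z)) with hC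
    suffices n ∈ C from fun b hb => (this b hb).symm
    obtain ⟨i, k, hk, hord, hodd, htwo⟩ := Transfer.exists_pow_coprime_part (p := 2) n
    have h2part : n ^ k ∈ C := by
      have hm : n ^ k ∈ (Tb : Subgroup (W ⧸ Z)) := by
        have hsup : IsPGroup 2 ↥(Subgroup.zpowers (n ^ k) ⊔ (Tb : Subgroup (W ⧸ Z))) :=
          IsPGroup.to_sup_of_normal_right' (Transfer.isPGroup_zpowers ⟨i, htwo⟩) Tb.2
            (Subgroup.zpowers_le.2 (pow_mem hn k))
        rw [← Tb.3 hsup le_sup_right]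
        exact Subgroup.mem_sup_left (Subgroup.mem_zpowers _)
      intro b hb
      have hi : ∀ u ∈ (Tb : Subgroup (W ⧸ Z)), u⁻¹ = u := fun u hu => inv_eq_of_mul_eq_one_right (h2 u hu)
      calc b * n ^ k = (b * n ^ k)⁻¹ := (hi _ (mul_mem hb hm)).symm
        _ = (n ^ k)⁻¹ * b⁻¹ := mul_inv_rev _ _
        _ = n ^ k * b := by rw [hi _ hm, hi b hb]
    have hoddpart : n ^ (2 ^ i) ∈ C := by
      obtain ⟨y, hy, hyodd⟩ := oddLift (n ^ (2 ^ i)) (Nat.coprime_two_right.1 hodd)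
      have hyQ : ∀ g ∈ qsub L M, (y : G) * g * (y : G)⁻¹ ∈ qsub L M := by
        intro g hg
        refine back (y * ⟨g, hW.sub hg⟩ * y⁻¹) ?_
        rw [map_mul, map_mul, map_inv, hy]
        exact (Subgroup.mem_normalizer_iff.1 (pow_mem hn _) _).1 (fwd g hg)
      obtain ⟨t, ht, rfl⟩ := lift a ha
      have hcm : Commute n (π ⟨t, hW.sub ht⟩) := hna
      have hyt : π ⟨t, hW.sub ht⟩ = π (y * ⟨t, hW.sub ht⟩ * y⁻¹) := by
        rw [map_mul, map_mul, map_inv, hy, (hcm.pow_left (2 ^ i)).eq, mul_inv_cancel_right]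
      have hcent := odd_centralises L M h3 (y := (y : G)) (by rwa [Subgroup.orderOf_coe]) (hcz y y.2) hyQ ht
        (fun e => ha1 ((hπ1 _).2 (Or.inl e))) (fun e => ha1 ((hπ1 _).2 (Or.inr e))) ((hπeq _ _).1 hyt)
      intro b hb
      obtain ⟨g, hg, rfl⟩ := lift b hb
      rw [← hy, ← map_mul, ← map_mul]
      exact congrArg π (Subtype.ext (mul_inv_eq_iff_eq_mul.1 (hcent g hg)).symm)
    have hb := Nat.gcd_eq_gcd_ab (2 ^ i) k
    rw [Nat.Coprime.gcd_eq_one ((Nat.prime_two.coprime_iff_not_dvd.2 hk).pow_left i)] at hb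
    have e : n = (n ^ (2 ^ i)) ^ (Nat.gcdA (2 ^ i) k) * (n ^ k) ^ (Nat.gcdB (2 ^ i) k) := by
      rw [← zpow_natCast, ← zpow_natCast n k, ← zpow_mul, ← zpow_mul, ← zpow_add, ← hb]
      simp
    rw [e]
    exact mul_mem (zpow_mem hoddpart _) (zpow_mem h2part _)
  have hsplit : ∀ a ∈ (Tb : Subgroup (W ⧸ Z)), a ≠ 1 → Split (Tb : Subgroup (W ⧸ Z)) a := by
    intro a ha ha1
    have hcomm : ∀ b ∈ (Tb : Subgroup (W ⧸ Z)), Commute b a := by
      intro b hb
      have hi : ∀ u ∈ (Tb : Subgroup (W ⧸ Z)), u⁻¹ = u := fun u hu => inv_eq_of_mul_eq_one_right (h2 u hu)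
      calc b * a = (b * a)⁻¹ := (hi _ (mul_mem hb ha)).symm
        _ = a⁻¹ * b⁻¹ := mul_inv_rev _ _
        _ = a * b := by rw [hi a ha, hi b hb]
    have hTC : (Tb : Subgroup (W ⧸ Z)) ≤ Cn a := fun b hb => mem_Cn.2 (hcomm b hb)
    intro g hg
    have hNC : Subgroup.normalizer ((Tb.subtype hTC : Subgroup (Cn a)) : Set (Cn a)) ≤
        Subgroup.centralizer ((Tb.subtype hTC : Subgroup (Cn a)) : Set (Cn a)) := by
      intro n hn b hb
      refine Subtype.ext (hfix a ha ha1 n ?_ (mem_Cn.1 n.2) b hb).symm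
      exact mem_normalizer_of_conj fun x hx => (Subgroup.mem_normalizer_iff.1 hn ⟨x, hTC hx⟩).1 hx
    obtain ⟨o, ho, p, hp, e⟩ := core_mul_sylow (Tb.subtype hTC) hNC ⟨g, hg⟩
    exact ⟨o, ⟨o, ho, rfl⟩, p, Subgroup.le_normalizer hp, p.2, congrArg Subtype.val e⟩
  have hab : ∃ a ∈ (Tb : Subgroup (W ⧸ Z)), ∃ b ∈ (Tb : Subgroup (W ⧸ Z)), a ≠ 1 ∧ b ≠ 1 ∧ ¬ IsConj a b := by
    have hu : el u01 ∈ qsub L M := dsub_le_qsub L M (L.el_mem_dsub.2 par_facts.2.2.1)
    have hs : s₁ ∈ qsub L M := ⟨zb4, s₁, misc_facts.2.2.2.2.2.2.2, Or.inr (Or.inl rfl), by rw [L.el_zero, one_mul]⟩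
    have hsA : s₁ ∉ A := fun h => misc_facts.2.1 (M.q₁.symm.trans (L.q_A h))
    refine ⟨_, fwd _ hu, _, fwd _ hs, ?_, ?_, ?_⟩
    · rw [ne_eq, hπ1]
      rintro (h | h)
      · exact L.el_ne par_facts.2.2.2.2.2.2 h
      · have := congrArg isz (L.el_inj h)
        rw [par_facts.2.2.2.2.2.1, isz_zc] at this
        exact Bool.noConfusion this
    · rw [ne_eq, hπ1]
      rintro (h | h)
      · exact hsA (by rw [show s₁ = 1 from h]; exact one_mem _)
      · exact hsA (by rw [show s₁ = z from h]; exact L.el_mem _)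
    · intro hc
      obtain ⟨g, hg⟩ := isConj_iff.1 hc
      obtain ⟨w, rfl⟩ := hπ g
      rw [← map_inv, ← map_mul, ← map_mul] at hg
      set v := (w : G) * el u01 * (w : G)⁻¹ with hv
      have hv' : s₁ = v ∨ s₁ = v * z := (hπeq _ _).1 hg
      have hvR : v ∈ (R : Subgroup G) := by
        rcases hv' with h | h
        · rw [← h]; exact M.h₁
        · have : v = s₁ * z⁻¹ := by rw [h, mul_inv_cancel_right]
          rw [this]; exact mul_mem M.h₁ (inv_mem (L.AR (L.el_mem _)))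
      have hvA := L.strongly_closed h3 _ (L.el_mem u01) w hvR
      rcases hv' with h | h <;> refine hsA ?_ <;> rw [h]
      · exact hvA
      · exact mul_mem hvA (L.el_mem _)
  have hmain := closed_main (G := W ⧸ Z) Tb h2 hcard le_rfl (fun x _ g hg => hg) (fun t ht _ => ht) hsplit hab
  -- lift back
  set MK : Subgroup W := (oddCore (W ⧸ Z)).comap π with hMK
  intro g hg
  obtain ⟨o, ho, n, hn, hon⟩ := hmain (π ⟨g, hg⟩)
  obtain ⟨y, hy, hyodd⟩ := oddLift o ((Nat.coprime_two_right.1 (Transfer.pPrimeCore_coprime 2)).of_dvd_nat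
    (Subgroup.orderOf_dvd_natCard _ ho))
  have hyMK : y ∈ MK := by show π y ∈ oddCore (W ⧸ Z); rw [hy]; exact ho
  obtain ⟨P⟩ : Nonempty (Sylow 2 MK) := inferInstance
  have hP : ∀ p ∈ (P : Subgroup MK), ((p : W) : G) = 1 ∨ ((p : W) : G) = z := by
    intro p hp
    refine (hπ1 _).1 (orderOf_one_of_two_group_odd ?_ ?_)
    · obtain ⟨j, hj⟩ := IsPGroup.iff_orderOf.1 P.2 ⟨p, hp⟩
      exact ⟨j, (orderOf_map_dvd (π.comp MK.subtype) p).trans (by rw [← Subgroup.orderOf_coe] at hj; rw [hj])⟩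
    · exact (Nat.coprime_two_right.1 (Transfer.pPrimeCore_coprime 2)).of_dvd_nat
        (Subgroup.orderOf_dvd_natCard _ p.2)
  have hMKnc : HasNormalPComplement 2 MK := by
    refine Transfer.hasNormalPComplement_of_central P fun p hp => ?_
    rw [Subgroup.mem_center_iff]
    intro x
    refine Subtype.ext (Subtype.ext ?_)
    show ((x : W) : G) * ((p : W) : G) = ((p : W) : G) * ((x : W) : G)
    rcases hP p hp with h | h <;> rw [h]
    · simp
    · exact mem_Cn.1 (hW.le (x : W).2)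
  have hyG : ((y : W) : G) ∈ Oi W := by
    have hin : (⟨y, hyMK⟩ : MK) ∈ oddCore MK := by
      show _ ∈ pPrimeCore 2 MK
      rw [Transfer.pPrimeCore_eq_pResidual hMKnc]
      refine Transfer.mem_pResidual_of_coprime (Nat.coprime_two_right.2 ?_)
      rwa [← Subgroup.orderOf_coe]
    have hsub : Oi (MK.map W.subtype) ≤ Oi W := by
      refine le_Oi ((Oi_le _).trans (Subgroup.map_subtype_le _)) (Oi_card_odd _) fun a ha x hx => ?_
      refine Oi_conj (mem_normalizer_of_conj ?_) hx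
      rintro _ ⟨k, hk, rfl⟩
      exact ⟨⟨a, ha⟩ * k * ⟨a, ha⟩⁻¹, (inferInstance : MK.Normal).conj_mem k hk _, rfl⟩
    refine hsub ?_
    let e := MK.equivMapOfInjective W.subtype W.subtype_injective
    exact ⟨e ⟨y, hyMK⟩, Transfer.le_pPrimeCore (N := (oddCore MK).map e.toMonoidHom)
      (Subgroup.Normal.map (Transfer.pPrimeCore_normal 2 _) _ e.surjective)
      (by rw [Subgroup.card_map_of_injective e.injective]; exact Transfer.pPrimeCore_coprime 2) ⟨_, hin, rfl⟩, rfl⟩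
  have hyO : ((y : W) : G) ∈ Oc z := by
    refine le_Oc ((Oi_le W).trans hW.le) (Oi_card_odd W) (fun a ha x hx => ?_) hyG
    exact Oi_conj (mem_normalizer_of_conj fun k hk => hW.conj_mem ha hk) hx
  refine ⟨y, hyO, (y : G)⁻¹ * g, mul_mem (inv_mem y.2) hg, by rw [mul_inv_cancel_left], fun d hd => ?_⟩
  have hm : π (y⁻¹ * ⟨g, hg⟩) = n := by rw [map_mul, map_inv, hy, hon, inv_mul_cancel_left]
  have hmQ : ((y : G)⁻¹ * g) * d * ((y : G)⁻¹ * g)⁻¹ ∈ qsub L M := by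
    refine back ((y⁻¹ * ⟨g, hg⟩) * ⟨d, hW.sub (dsub_le_qsub L M hd)⟩ * (y⁻¹ * ⟨g, hg⟩)⁻¹) ?_
    rw [map_mul, map_mul π (y⁻¹ * ⟨g, hg⟩), map_inv π (y⁻¹ * ⟨g, hg⟩), hm]
    exact (Subgroup.mem_normalizer_iff.1 hn _).1 (fwd d (dsub_le_qsub L M hd))
  exact qsub_inf L M hmQ (L.strongly_closed h3 d (L.dsub_le hd) _ (qsub_le L M hmQ))

end Half

/-- **The centraliser of the central involution splits.** -/
theorem split_z (L : Lab A R q el) (h3 : Nat.card {c : ConjClasses G // ∃ x ∈ c.carrier, orderOf x = 2} = 3)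
    (h64 : Nat.card (R : Subgroup G) = 64) : Split A (el (zc 4)) := by
  haveI := Fact.mk Nat.prime_two
  obtain ⟨s₁, s₂, h₁, h₂, sq₁, sq₂, cm, q₁, q₂⟩ := L.exists_lifts h3
  have M : Lifts L s₁ s₂ := ⟨h₁, h₂, sq₁, sq₂, cm, q₁, q₂⟩
  obtain ⟨W, hW⟩ := exists_half L M h3
  set z := el (zc 4) with hz
  set u := el (xr (zc 0) (zc 4)) with hu
  have hAH : A ≤ Cn z := L.A_le_Cn (L.el_mem _)
  have huH : u ∈ Cn z := hAH (L.el_mem _)
  have hud : ∀ d ∈ L.dsub, u * d * u⁻¹ = d := fun d hd =>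
    mul_inv_eq_iff_eq_mul.2 (L.comm (L.el_mem _) (L.dsub_le hd))
  have step1 : ∀ g ∈ Cn z, ∃ o ∈ Oc z, ∃ m ∈ Cn z, g = o * m ∧ ∀ d ∈ L.dsub, m * d * m⁻¹ ∈ L.dsub := by
    intro g hg
    by_cases hgW : g ∈ W
    · obtain ⟨o, ho, m, hm, e, hmD⟩ := hW.cover h3 h64 g hgW
      exact ⟨o, ho, m, hW.le hm, e, hmD⟩
    · have hgu : g * u⁻¹ ∈ W := (hW.mul g hg _ (inv_mem huH)).2 (by rw [inv_mem_iff]; exact iff_of_false hgW hW.out)
      obtain ⟨o, ho, m, hm, e, hmD⟩ := hW.cover h3 h64 _ hgu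
      refine ⟨o, ho, m * u, mul_mem (hW.le hm) huH, by rw [← mul_assoc, ← e, inv_mul_cancel_right], fun d hd => ?_⟩
      rw [show m * u * d * (m * u)⁻¹ = m * (u * d * u⁻¹) * m⁻¹ by group, hud d hd]
      exact hmD d hd
  set CD := W ⊓ Subgroup.centralizer (L.dsub : Set G) with hCD
  have hDCD : L.dsub ≤ CD := fun d hd =>
    ⟨hW.sub (dsub_le_qsub L M hd), fun e he => L.comm (L.dsub_le he) (L.dsub_le hd)⟩
  have hD2 : IsPGroup 2 (L.dsub.subgroupOf CD) := fun x =>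
    ⟨1, Subtype.ext (Subtype.ext (by simpa [pow_two] using L.h2 _ (L.dsub_le x.2)))⟩
  obtain ⟨P, hP⟩ := hD2.exists_le_sylow
  have hPD : ∀ p ∈ (P : Subgroup CD), (p : G) ∈ L.dsub := by
    intro p hp
    obtain ⟨h, -, hh⟩ := hW.exists_conj (P.2.map CD.subtype) ((Subgroup.map_subtype_le _).trans inf_le_left)
    have hin : ∀ d ∈ L.dsub, h * d * h⁻¹ ∈ L.dsub := fun d hd => by
      have h1 := hh d ⟨⟨d, hDCD hd⟩, hP hd, rfl⟩
      exact qsub_inf L M h1 (L.strongly_closed h3 d (L.dsub_le hd) h (qsub_le L M h1))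
    have hN := mem_normalizer_of_conj hin
    have hq' := hh p ⟨p, hp, rfl⟩
    obtain ⟨x, e, hx, he, hxe⟩ := hq'
    suffices he1 : e = 1 by
      have : h * (p : G) * h⁻¹ ∈ L.dsub := ⟨x, hx, by rw [hxe, he1, mul_one]⟩
      exact (Subgroup.mem_normalizer_iff.1 hN _).2 this
    by_contra he1
    obtain ⟨heR, -, hc⟩ := inE_facts L M he
    have hσ : q ⟨e, L.RN heR⟩ = v1 ∨ q ⟨e, L.RN heR⟩ = v2 ∨ q ⟨e, L.RN heR⟩ = v3 := by
      rcases hc with ⟨h', -⟩ | ⟨-, h'⟩ | ⟨-, h'⟩ | ⟨-, h'⟩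
      · exact absurd h' he1
      · exact Or.inl h'
      · exact Or.inr (Or.inl h')
      · exact Or.inr (Or.inr h')
    obtain ⟨b, hb, hbne⟩ := even_faithful _ hσ
    refine hbne (L.el_inj ?_)
    rw [← L.act_of (L.RN heR) rfl]
    have hb' : h⁻¹ * el b * h ∈ L.dsub := by
      simpa using (Subgroup.mem_normalizer_iff.1 (inv_mem hN) (el b)).1 (L.el_mem_dsub.2 hb)
    have e1 := p.2.2 _ hb'
    have e2 : (h * (p : G) * h⁻¹) * el b * (h * (p : G) * h⁻¹)⁻¹ = el b := by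
      calc h * (p : G) * h⁻¹ * el b * (h * (p : G) * h⁻¹)⁻¹
          = h * ((p : G) * (h⁻¹ * el b * h) * (p : G)⁻¹) * h⁻¹ := by group
        _ = el b := by rw [← e1, mul_inv_cancel_right]; group
    rw [hxe] at e2
    calc e * el b * e⁻¹ = (el x)⁻¹ * (el x * e * el b * (el x * e)⁻¹) * el x := by group
      _ = el b := by rw [e2, mul_assoc, L.comm (L.el_mem b) (L.el_mem x), ← mul_assoc, inv_mul_cancel, one_mul]
  have hcdsplit : ∀ c ∈ CD, ∃ o ∈ Oi CD, ∃ d ∈ L.dsub, c = o * d := by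
    intro c hc
    obtain ⟨o, ho, p, hp, e⟩ := core_mul_sylow P (fun n _ b hb =>
      Subtype.ext (n.2.2 _ (hPD b hb))) ⟨c, hc⟩
    exact ⟨o, ⟨o, ho, rfl⟩, p, hPD p hp, congrArg Subtype.val e⟩
  have hUO : Oi CD ≤ Oc z := by
    refine core_absorb (H := Cn z) ((Oi_le CD).trans (inf_le_left.trans hW.le)) (Oi_card_odd _) fun g hg => ?_
    obtain ⟨o, ho, m, hm, e, hmD⟩ := step1 g hg
    refine ⟨o, ho, m, hm, e, fun x hx => Oi_conj (mem_normalizer_of_conj fun c hc => ⟨hW.conj_mem hm hc.1, ?_⟩) hx⟩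
    intro d hd
    obtain ⟨d', hd', rfl⟩ : ∃ d' ∈ L.dsub, m * d' * m⁻¹ = d :=
      ⟨m⁻¹ * d * m, by simpa using (Subgroup.mem_normalizer_iff.1 (inv_mem (mem_normalizer_of_conj hmD)) d).1 hd,
        by group⟩
    have e1 := hc.2 d' hd'
    calc m * d' * m⁻¹ * (m * c * m⁻¹) = m * (d' * c) * m⁻¹ := by group
      _ = m * (c * d') * m⁻¹ := by rw [e1]
      _ = _ := by group
  have step2 : ∀ c ∈ Cn z, (∀ d ∈ L.dsub, c * d = d * c) → ∃ o ∈ Oc z, ∃ a ∈ A, c = o * a := by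
    intro c hc hcD
    by_cases hcW : c ∈ W
    · obtain ⟨o, ho, d, hd, e⟩ := hcdsplit c ⟨hcW, fun d hd => (hcD d hd).symm⟩
      exact ⟨o, hUO ho, d, L.dsub_le hd, e⟩
    · have hcu : c * u ∈ W := (hW.mul c hc _ huH).2 (iff_of_false hcW hW.out)
      obtain ⟨o, ho, d, hd, e⟩ := hcdsplit (c * u) ⟨hcu, fun d hd => by
        rw [← mul_assoc, ← hcD d hd, mul_assoc, L.comm (L.dsub_le hd) (L.el_mem _), ← mul_assoc]⟩
      refine ⟨o, hUO ho, d * u⁻¹, mul_mem (L.dsub_le hd) (inv_mem (L.el_mem _)), ?_⟩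
      rw [← mul_assoc, ← e, mul_inv_cancel_right]
  intro g hg
  obtain ⟨o₁, ho₁, m, hm, e, hmD⟩ := step1 g hg
  -- conjugates of `A` inside the product of the core with `A`
  let K : Subgroup G :=
    { carrier := {x | ∃ o ∈ Oc z, ∃ a ∈ A, x = o * a}
      one_mem' := ⟨1, one_mem _, 1, one_mem _, (one_mul 1).symm⟩
      mul_mem' := by
        rintro _ _ ⟨o, ho, a, ha, rfl⟩ ⟨o', ho', a', ha', rfl⟩
        exact ⟨o * (a * o' * a⁻¹), mul_mem ho (Oc_conj (hAH ha) ho'), a * a', mul_mem ha ha', by group⟩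
      inv_mem' := by
        rintro _ ⟨o, ho, a, ha, rfl⟩
        exact ⟨a⁻¹ * o⁻¹ * a, by simpa using Oc_conj (hAH (inv_mem ha)) (inv_mem ho), a⁻¹, inv_mem ha, by group⟩ }
  have hAK : A ≤ K := fun a ha => ⟨1, one_mem _, a, ha, (one_mul a).symm⟩
  have hA2 : IsPGroup 2 (A.subgroupOf K) := fun x =>
    ⟨1, Subtype.ext (Subtype.ext (by simpa [pow_two] using L.h2 _ x.2))⟩
  obtain ⟨PA, hPA⟩ := hA2.exists_le_sylow
  have hPAA : ∀ p ∈ (PA : Subgroup K), (p : G) ∈ A := by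
    intro p hp
    obtain ⟨o, ho, a, ha, hoa⟩ := p.2
    have hoP : (⟨o, ⟨o, ho, 1, one_mem _, (mul_one o).symm⟩⟩ : K) ∈ (PA : Subgroup K) := by
      have h1 := mul_mem hp (inv_mem (hPA (show (⟨a, hAK ha⟩ : K) ∈ A.subgroupOf K from ha)))
      have h2 : p * ⟨a, hAK ha⟩⁻¹ = (⟨o, ⟨o, ho, 1, one_mem _, (mul_one o).symm⟩⟩ : K) :=
        Subtype.ext (by show (p : G) * a⁻¹ = o; rw [hoa, mul_inv_cancel_right])
      rwa [h2] at h1
    obtain ⟨j, hj⟩ := IsPGroup.iff_orderOf.1 PA.2 ⟨_, hoP⟩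
    have ho1 : o = 1 := orderOf_one_of_two_group_odd ⟨j, by
      rw [← Subgroup.orderOf_coe, ← Subgroup.orderOf_coe] at hj; exact hj.dvd⟩ (odd_of_mem (Oc_card_odd z) ho)
    rw [hoa, ho1, one_mul]; exact ha
  have hmA : ∀ a ∈ A, m * a * m⁻¹ ∈ K := by
    intro a ha
    refine step2 _ (mul_mem (mul_mem hm (hAH ha)) (inv_mem hm)) fun d hd => ?_
    obtain ⟨d', hd', rfl⟩ : ∃ d' ∈ L.dsub, m * d' * m⁻¹ = d :=
      ⟨m⁻¹ * d * m, by simpa using (Subgroup.mem_normalizer_iff.1 (inv_mem (mem_normalizer_of_conj hmD)) d).1 hd,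
        by group⟩
    calc m * a * m⁻¹ * (m * d' * m⁻¹) = m * (a * d') * m⁻¹ := by group
      _ = m * (d' * a) * m⁻¹ := by rw [L.comm ha (L.dsub_le hd')]
      _ = _ := by group
  set B := (A.map (MulAut.conj m).toMonoidHom).subgroupOf K with hB
  have hB2 : IsPGroup 2 B := by
    intro x
    obtain ⟨a, ha, hax⟩ := x.2
    refine ⟨1, Subtype.ext (Subtype.ext ?_)⟩
    show ((x : K) : G) ^ (2 ^ 1) = 1
    have hax' : m * a * m⁻¹ = ((x : K) : G) := hax
    rw [← hax', pow_one, pow_two, show m * a * m⁻¹ * (m * a * m⁻¹) = m * (a * a) * m⁻¹ by group, L.h2 a ha]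
    group
  obtain ⟨T, hT⟩ := hB2.exists_le_sylow
  obtain ⟨k, hk⟩ := MulAction.exists_smul_eq K PA T
  obtain ⟨o, ho, a, ha, hka⟩ := k.2
  have hn : o⁻¹ * m ∈ Subgroup.normalizer (A : Set G) := by
    refine mem_normalizer_of_conj fun c hc => ?_
    have h1 : (⟨m * c * m⁻¹, hmA c hc⟩ : K) ∈ (T : Subgroup K) := hT ⟨c, hc, rfl⟩
    rw [← hk] at h1
    obtain ⟨p, hp, hpe⟩ := h1
    have hpe' : (k : G) * (p : G) * (k : G)⁻¹ = m * c * m⁻¹ := congrArg Subtype.val hpe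
    have : o⁻¹ * m * c * (o⁻¹ * m)⁻¹ = a * (p : G) * a⁻¹ := by
      calc o⁻¹ * m * c * (o⁻¹ * m)⁻¹ = o⁻¹ * (m * c * m⁻¹) * o := by group
        _ = _ := by rw [← hpe', hka]; group
    rw [this]
    exact mul_mem (mul_mem ha (hPAA p hp)) (inv_mem ha)
  have hoC : o ∈ Cn z := Oc_le z ho
  refine ⟨o₁ * o, mul_mem ho₁ ho, o⁻¹ * m, hn, mul_mem (inv_mem hoC) hm, ?_⟩
  rw [e]; group

end Lab

end CfsgLib.A8ThreeClass
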