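import Cfsg.Agent.S0217
import Cfsg.Agent.Lib.OddOrder.Solvable
import Cfsg.Agent.Lib.Invol.Dihedral
import Cfsg.Agent.Lib.Transfer.Basic
import Cfsg.Agent.Lib.Groups.SelfCentPrime
import Cfsg.Prelude.Def_CaseTheorems

/-!
A strongly closed elementary abelian 2-subgroup whose centralisers of involutions are controlled by its
normaliser modulo cores, and which meets two classes, is normal modulo the core.
-/

set_option autoImplicit false
set_option linter.style.haveILetI false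
set_option linter.unusedSectionVars false

open Cfsg

namespace CfsgLib.A8ThreeClass

variable {G : Type*} [Group G] [Finite G]

theorem mem_normalizer_of_conj {H : Subgroup G} {g : G} (h : ∀ x ∈ H, g * x * g⁻¹ ∈ H) :
    g ∈ Subgroup.normalizer (H : Set G) := by
  refine Subgroup.mem_normalizer_iff.2 fun x => ⟨h x, fun hx => ?_⟩
  let f : H → H := fun u => ⟨g * u * g⁻¹, h u u.2⟩
  have hf : Function.Injective f := fun u v e => Subtype.ext
    (mul_left_cancel (mul_right_cancel (congrArg Subtype.val e)))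
  obtain ⟨u, hu⟩ := Finite.injective_iff_surjective.1 hf ⟨_, hx⟩
  have e : (u : G) = x := mul_left_cancel (mul_right_cancel (congrArg Subtype.val hu))
  exact e ▸ u.2

/-- the centraliser of an element -/
abbrev Cn (a : G) : Subgroup G := Subgroup.centralizer ({a} : Set G)

theorem mem_Cn {a g : G} : g ∈ Cn a ↔ Commute g a := Subgroup.mem_centralizer_singleton_iff

/-- the odd core of the centraliser of an element -/
def Oc (a : G) : Subgroup G := (oddCore ↥(Cn a)).map (Cn a).subtype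

/-- the centraliser of `a` is the product of its odd core and the part normalising `A` -/
def Split (A : Subgroup G) (a : G) : Prop :=
  ∀ g ∈ Cn a, ∃ o ∈ Oc a, ∃ n ∈ Subgroup.normalizer (A : Set G), n ∈ Cn a ∧ g = o * n

theorem Oc_le (a : G) : Oc a ≤ Cn a := Subgroup.map_subtype_le _

theorem Oc_card_odd (a : G) : Odd (Nat.card (Oc a)) := by
  rw [Oc, Subgroup.card_map_of_injective (Cn a).subtype_injective, ← Nat.coprime_two_right]
  exact Transfer.pPrimeCore_coprime 2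

theorem Oc_conj {a g x : G} (hg : g ∈ Cn a) (hx : x ∈ Oc a) : g * x * g⁻¹ ∈ Oc a := by
  obtain ⟨y, hy, rfl⟩ := hx
  exact ⟨⟨g, hg⟩ * y * ⟨g, hg⟩⁻¹, (Transfer.pPrimeCore_normal 2 _).conj_mem y hy _, rfl⟩

theorem le_Oc {a : G} {U : Subgroup G} (h1 : U ≤ Cn a) (ho : Odd (Nat.card U))
    (hn : ∀ g ∈ Cn a, ∀ u ∈ U, g * u * g⁻¹ ∈ U) : U ≤ Oc a := by
  intro u hu
  refine ⟨⟨u, h1 hu⟩, Transfer.le_pPrimeCore (N := U.subgroupOf (Cn a)) ⟨fun x hx g => hn g g.2 x hx⟩ ?_ hu, rfl⟩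
  rw [Nat.card_congr (Subgroup.subgroupOfEquivOfLe h1).toEquiv]
  exact Nat.coprime_two_right.2 ho

theorem Oc_equiv (g a : G) {x : G} (hx : x ∈ Oc a) : g * x * g⁻¹ ∈ Oc (g * a * g⁻¹) := by
  refine le_Oc (U := (Oc a).map (MulAut.conj g).toMonoidHom) ?_ ?_ ?_ ⟨x, hx, rfl⟩
  · rintro _ ⟨y, hy, rfl⟩
    have h := (mem_Cn.1 (Oc_le a hy)).map (MulAut.conj g).toMonoidHom
    exact mem_Cn.2 h
  · rw [Subgroup.card_map_of_injective (MulAut.conj g).injective]; exact Oc_card_odd a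
  · rintro h hh _ ⟨y, hy, rfl⟩
    have hh' : g⁻¹ * h * g ∈ Cn a := mem_Cn.2 (by
      have e := (mem_Cn.1 hh).eq
      show g⁻¹ * h * g * a = a * (g⁻¹ * h * g)
      calc g⁻¹ * h * g * a = g⁻¹ * (h * (g * a * g⁻¹)) * g := by group
        _ = g⁻¹ * ((g * a * g⁻¹) * h) * g := by rw [e]
        _ = _ := by group)
    refine ⟨(g⁻¹ * h * g) * y * (g⁻¹ * h * g)⁻¹, Oc_conj hh' hy, ?_⟩
    show g * (g⁻¹ * h * g * y * (g⁻¹ * h * g)⁻¹) * g⁻¹ = h * (g * y * g⁻¹) * h⁻¹
    group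

theorem odd_mem {a : G} {A : Subgroup G} (h2 : ∀ c ∈ A, c * c = 1) {o c : G} (ho : o ∈ Oc a)
    (hc : c ∈ A) (hca : c ∈ Cn a) (hodd : Odd (orderOf (o * c))) : o * c ∈ Oc a := by
  have hsq : (o * c) ^ 2 ∈ Oc a := by
    have e : (o * c) ^ 2 = o * (c * o * c⁻¹) * (c * c) := by rw [pow_two]; group
    rw [e, h2 c hc, mul_one]
    exact mul_mem ho (Oc_conj hca ho)
  obtain ⟨m, hm⟩ := hodd
  have e : o * c = ((o * c) ^ 2) ^ (m + 1) := by
    rw [← pow_mul, show 2 * (m + 1) = orderOf (o * c) + 1 by omega, pow_succ, pow_orderOf_eq_one, one_mul]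
  rw [e]; exact pow_mem hsq _

/-- elements of the normaliser of `A` which centralise `A` split -/
theorem centralizer_split (T : Sylow 2 G) {A : Subgroup G} (h2 : ∀ c ∈ A, c * c = 1)
    (hAT : A ≤ (T : Subgroup G))
    (hsc : ∀ x ∈ A, ∀ g : G, g * x * g⁻¹ ∈ (T : Subgroup G) → g * x * g⁻¹ ∈ A)
    (hself : ∀ t ∈ (T : Subgroup G), (∀ c ∈ A, t * c = c * t) → t ∈ A) :
    ∀ n ∈ Subgroup.centralizer (A : Set G), ∃ w : G, ∃ c ∈ A, n = w * c ∧
      w ∈ Subgroup.centralizer (A : Set G) ∧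
      ∀ b ∈ A, Split A b → w ∈ Oc b := by
  haveI := Fact.mk Nat.prime_two
  set K := Subgroup.centralizer (A : Set G) with hK
  have hcomm : ∀ x ∈ A, ∀ y ∈ A, x * y = y * x := by
    intro x hx y hy
    have hi : ∀ u ∈ A, u⁻¹ = u := fun u hu => inv_eq_of_mul_eq_one_right (h2 u hu)
    calc x * y = (x * y)⁻¹ := (hi _ (mul_mem hx hy)).symm
      _ = y⁻¹ * x⁻¹ := mul_inv_rev x y
      _ = y * x := by rw [hi x hx, hi y hy]
  have hAK : A ≤ K := fun x hx y hy => hcomm y hy x hx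
  have hA2 : IsPGroup 2 (A.subgroupOf K) := fun x =>
    ⟨1, Subtype.ext (Subtype.ext (by simpa [pow_two] using h2 _ x.2))⟩
  obtain ⟨P, hP⟩ := hA2.exists_le_sylow
  have hPA : (P : Subgroup K) = A.subgroupOf K := by
    refine le_antisymm (fun x hx => ?_) hP
    obtain ⟨T', hT'⟩ := (P.2.map K.subtype).exists_le_sylow
    obtain ⟨g, hg⟩ := MulAction.exists_smul_eq G T T'
    have hmem : ∀ y ∈ (T' : Subgroup G), g⁻¹ * y * g ∈ (T : Subgroup G) := by
      intro y hy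
      rw [← hg] at hy
      obtain ⟨t, ht, rfl⟩ := hy
      convert ht using 1
      simp [mul_assoc]
      rfl
    have hin : ∀ c ∈ A, g⁻¹ * c * g ∈ A := fun c hc => by
      have := hsc c hc g⁻¹ (by simpa using hmem c (hT' ⟨⟨c, hAK hc⟩, hP hc, rfl⟩))
      simpa using this
    have hsurj : ∀ c ∈ A, g * c * g⁻¹ ∈ A := by
      intro c hc
      let f : A → A := fun u => ⟨g⁻¹ * u * g, hin u u.2⟩
      have hf : Function.Injective f := fun u v h => Subtype.ext
        (mul_left_cancel (mul_right_cancel (congrArg Subtype.val h)))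
      obtain ⟨u, hu⟩ := (Finite.injective_iff_surjective.1 hf) ⟨c, hc⟩
      have hu' : g⁻¹ * (u : G) * g = c := congrArg Subtype.val hu
      rw [← hu']; simp [mul_assoc]
    have hc' : ∀ c ∈ A, g⁻¹ * (x : G) * g * c = c * (g⁻¹ * (x : G) * g) := by
      intro c hc
      have e : (x : G) * (g * c * g⁻¹) = (g * c * g⁻¹) * x := (x.2 _ (hsurj c hc)).symm
      calc g⁻¹ * (x : G) * g * c = g⁻¹ * ((x : G) * (g * c * g⁻¹)) * g := by group
        _ = g⁻¹ * ((g * c * g⁻¹) * x) * g := by rw [e]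
        _ = _ := by group
    have := hsurj _ (hself _ (hmem _ (hT' ⟨x, hx, rfl⟩)) hc')
    show (x : G) ∈ A
    simpa [mul_assoc] using this
  have hcen : Subgroup.normalizer ((P : Subgroup K) : Set K) ≤ Subgroup.centralizer ((P : Subgroup K) : Set K) := by
    intro x _ y hy
    rw [SetLike.mem_coe, hPA] at hy
    exact Subtype.ext (x.2 (y : G) hy)
  obtain ⟨N₀, hN₀, hcp⟩ := (Transfer.hasNormalPComplement_iff_forall_sylow P).1
    (Transfer.hasNormalPComplement_of_normalizer_le_centralizer P hcen)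
  haveI := hN₀
  have hq := Transfer.isPGroup_quotient_of_isComplement' hcp
  have hco := Transfer.coprime_card_of_isComplement' hcp
  intro n hn
  obtain ⟨w, hw, p, hp, e⟩ := Subgroup.mem_sup_of_normal_left.1
    (show (⟨n, hn⟩ : K) ∈ N₀ ⊔ (P : Subgroup K) from hcp.sup_eq_top ▸ Subgroup.mem_top _)
  rw [hPA] at hp
  refine ⟨w, p, hp, (congrArg Subtype.val e).symm, w.2, fun b hb hsp => ?_⟩
  have hKb : K ≤ Cn b := fun x hx => mem_Cn.2 (hx b hb).symm
  set U : Subgroup G := N₀.map K.subtype with hU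
  have hUb : U ≤ Cn b := (Subgroup.map_subtype_le _).trans hKb
  have hUn : ∀ m ∈ Subgroup.normalizer (A : Set G), ∀ u ∈ U, m * u * m⁻¹ ∈ U := by
    rintro m hm _ ⟨u, hu, rfl⟩
    have hmK : m * (u : G) * m⁻¹ ∈ K := by
      intro y hy
      have hy' : m⁻¹ * y * m ∈ A := by
        simpa [mul_assoc] using (Subgroup.mem_normalizer_iff.1 (inv_mem hm) y).1 hy
      have e := u.2 _ hy'
      calc y * (m * (u : G) * m⁻¹) = m * ((m⁻¹ * y * m) * u) * m⁻¹ := by group
        _ = m * (u * (m⁻¹ * y * m)) * m⁻¹ := by rw [e]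
        _ = _ := by group
    refine ⟨⟨_, hmK⟩, (Transfer.mem_iff_coprime_orderOf hco hq).2 ?_, rfl⟩
    rw [← Subgroup.orderOf_coe]
    show (orderOf (m * (u : G) * m⁻¹)).Coprime 2
    rw [Transfer.orderOf_conj, Subgroup.orderOf_coe]
    exact Transfer.coprime_orderOf_of_mem hco hu
  set U' := U.subgroupOf (Cn b)
  set O' := oddCore ↥(Cn b)
  haveI hO' : O'.Normal := Transfer.pPrimeCore_normal 2 _
  have hJ : (U' ⊔ O').Normal := by
    refine ⟨fun x hx g => ?_⟩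
    have hle : (U' ⊔ O').map (MulAut.conj g).toMonoidHom ≤ U' ⊔ O' := by
      rw [Subgroup.map_sup, sup_le_iff]
      constructor
      · rintro _ ⟨u, hu, rfl⟩
        obtain ⟨o, ho, m, hm, hmb, hg⟩ := hsp g g.2
        obtain ⟨o', ho', rfl⟩ := ho
        have he : g * u * g⁻¹ = o' * (⟨m, hmb⟩ * u * ⟨m, hmb⟩⁻¹) * o'⁻¹ := by
          refine Subtype.ext ?_
          show (g : G) * u * (g : G)⁻¹ = (o' : G) * (m * u * m⁻¹) * (o' : G)⁻¹
          rw [hg]
          show (o' : G) * m * u * ((o' : G) * m)⁻¹ = _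
          group
        show g * u * g⁻¹ ∈ _
        rw [he]
        have ho'' : o' ∈ U' ⊔ O' := Subgroup.mem_sup_right ho'
        exact mul_mem (mul_mem ho'' (Subgroup.mem_sup_left (hUn m hm _ hu))) (inv_mem ho'')
      · rintro _ ⟨u, hu, rfl⟩
        exact Subgroup.mem_sup_right (hO'.conj_mem u hu g)
    exact hle ⟨x, hx, rfl⟩
  have hJo : (Nat.card ↥(U' ⊔ O')).Coprime 2 := by
    refine Nat.Coprime.coprime_dvd_left (SelfCent.card_sup_dvd_mul U' O') (Nat.Coprime.mul_left ?_ ?_)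
    · rw [Nat.card_congr (Subgroup.subgroupOfEquivOfLe hUb).toEquiv, hU,
        Subgroup.card_map_of_injective K.subtype_injective]
      exact hco
    · exact Transfer.pPrimeCore_coprime 2
  have hwU : (w : G) ∈ U := ⟨w, hw, rfl⟩
  exact ⟨⟨w, hUb hwU⟩, Transfer.le_pPrimeCore hJ hJo (Subgroup.mem_sup_left hwU), rfl⟩

/-- the balance condition -/
theorem balance (T : Sylow 2 G) {A : Subgroup G} (h2 : ∀ c ∈ A, c * c = 1)
    (hAT : A ≤ (T : Subgroup G))
    (hsc : ∀ x ∈ A, ∀ g : G, g * x * g⁻¹ ∈ (T : Subgroup G) → g * x * g⁻¹ ∈ A)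
    (hself : ∀ t ∈ (T : Subgroup G), (∀ c ∈ A, t * c = c * t) → t ∈ A)
    {a b : G} (ha : a ∈ A) (hb : b ∈ A) (hsp : Split A b) : Oc a ⊓ Cn b ≤ Oc b := by
  have hcomm : ∀ x ∈ A, ∀ y ∈ A, x * y = y * x := by
    intro x hx y hy
    have hi : ∀ u ∈ A, u⁻¹ = u := fun u hu => inv_eq_of_mul_eq_one_right (h2 u hu)
    calc x * y = (x * y)⁻¹ := (hi _ (mul_mem hx hy)).symm
      _ = y⁻¹ * x⁻¹ := mul_inv_rev x y
      _ = y * x := by rw [hi x hx, hi y hy]
  rintro u ⟨hua, hub⟩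
  have hodd : ∀ {v : G} {c : G}, v ∈ Oc c → Odd (orderOf v) := fun hv =>
    (Oc_card_odd _).of_dvd_nat (Subgroup.orderOf_dvd_natCard _ hv)
  obtain ⟨o, ho, n, hn, hnb, rfl⟩ := hsp u hub
  have hnA : n ∈ Subgroup.centralizer (A : Set G) := by
    intro c hc
    have hca : c ∈ Cn a := mem_Cn.2 (hcomm c hc a ha)
    have hcb : c ∈ Cn b := mem_Cn.2 (hcomm c hc b hb)
    set c' := n * c * n⁻¹ with hc'def
    have hc' : c' ∈ A := (Subgroup.mem_normalizer_iff.1 hn c).1 hc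
    have hcb' : c' ∈ Cn b := mem_Cn.2 (hcomm _ hc' b hb)
    set v := (o * n) * c * (o * n)⁻¹ * c⁻¹ with hvdef
    have hva : v ∈ Oc a := by
      have : v = (o * n) * (c * (o * n)⁻¹ * c⁻¹) := by rw [hvdef]; group
      rw [this]
      exact mul_mem hua (Oc_conj hca (inv_mem hua))
    have hvd : v = o * (c' * o⁻¹ * c'⁻¹) * (c' * c⁻¹) := by rw [hvdef, hc'def]; group
    have ho' : o * (c' * o⁻¹ * c'⁻¹) ∈ Oc b := mul_mem ho (Oc_conj hcb' (inv_mem ho))
    have hd : c' * c⁻¹ ∈ A := mul_mem hc' (inv_mem hc)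
    have hvb : v ∈ Oc b := by
      rw [hvd]
      exact odd_mem h2 ho' hd (mul_mem hcb' (inv_mem hcb)) (hvd ▸ hodd hva)
    have hdO : c' * c⁻¹ ∈ Oc b := by
      rw [hvd] at hvb
      exact (Subgroup.mul_mem_cancel_left _ ho').1 hvb
    have h1 : c' * c⁻¹ = 1 := Invol.eq_one_of_odd_of_sq (hodd hdO) (h2 _ hd)
    have h3 : n * c * n⁻¹ = c := mul_inv_eq_one.1 h1
    exact (mul_inv_eq_iff_eq_mul.1 h3).symm
  obtain ⟨w, c, hc, rfl, -, hw⟩ := centralizer_split T h2 hAT hsc hself n hnA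
  rw [← mul_assoc] at hua ⊢
  exact odd_mem h2 (mul_mem ho (hw b hb hsp)) hc (mem_Cn.2 (hcomm c hc b hb)) (hodd hua)

/-- **A strongly closed elementary abelian subgroup with two classes and controlled centralisers.** -/
theorem closed_main (T : Sylow 2 G) {A : Subgroup G} (h2 : ∀ c ∈ A, c * c = 1)
    (h8 : 8 ≤ Nat.card A) (hAT : A ≤ (T : Subgroup G))
    (hsc : ∀ x ∈ A, ∀ g : G, g * x * g⁻¹ ∈ (T : Subgroup G) → g * x * g⁻¹ ∈ A)
    (hself : ∀ t ∈ (T : Subgroup G), (∀ c ∈ A, t * c = c * t) → t ∈ A)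
    (hC : ∀ a ∈ A, a ≠ 1 → Split A a)
    (hab : ∃ a ∈ A, ∃ b ∈ A, a ≠ 1 ∧ b ≠ 1 ∧ ¬ IsConj a b) :
    ∀ g : G, ∃ o ∈ oddCore G, ∃ n ∈ Subgroup.normalizer (A : Set G), g = o * n := by
  haveI := Fact.mk Nat.prime_two
  have hcomm : ∀ x ∈ A, ∀ y ∈ A, x * y = y * x := by
    intro x hx y hy
    have hi : ∀ u ∈ A, u⁻¹ = u := fun u hu => inv_eq_of_mul_eq_one_right (h2 u hu)
    calc x * y = (x * y)⁻¹ := (hi _ (mul_mem hx hy)).symm
      _ = y⁻¹ * x⁻¹ := mul_inv_rev x y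
      _ = y * x := by rw [hi x hx, hi y hy]
  obtain ⟨hW2, hWC⟩ := Cfsg.Agent.S0217.result (p := 2) A hcomm (fun a ha => by rw [pow_two]; exact h2 a ha)
    (by norm_num; exact h8) Oc (fun a _ _ => Oc_le a)
    (fun a _ _ => by
      rw [← even_iff_two_dvd, Nat.not_even_iff_odd]; exact Oc_card_odd a)
    (fun a ha _ c hc x hx => Oc_conj (mem_Cn.2 (hcomm c hc a ha)) hx)
    (fun a _ _ => OddOrder.odd_order_solvable (Oc_card_odd a))
    (fun a ha _ b hb hb1 => balance T h2 hAT hsc hself ha hb (hC b hb hb1))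
  set W : Subgroup G := ⨆ a : {a : G // a ∈ A ∧ a ≠ 1}, Oc (a : G) with hWdef
  have hnW : ∀ n ∈ Subgroup.normalizer (A : Set G), ∀ x ∈ W, n * x * n⁻¹ ∈ W := by
    intro n hn x hx
    have : W.map (MulAut.conj n).toMonoidHom ≤ W := by
      rw [hWdef, Subgroup.map_iSup]
      refine iSup_le fun a => ?_
      rintro _ ⟨y, hy, rfl⟩
      refine Subgroup.mem_iSup_of_mem (⟨n * a * n⁻¹, (Subgroup.mem_normalizer_iff.1 hn _).1 a.2.1,
        fun e => a.2.2 (by simpa using conj_eq_one_iff.1 e)⟩ : {a : G // a ∈ A ∧ a ≠ 1}) ?_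
      exact Oc_equiv n a hy
    exact this ⟨x, hx, rfl⟩
  set M : Subgroup G := W ⊔ Subgroup.normalizer (A : Set G) with hMdef
  have hNM : Subgroup.normalizer (A : Set G) ≤ M := le_sup_right
  have hCM : ∀ a ∈ A, a ≠ 1 → Cn a ≤ M := by
    intro a ha ha1 g hg
    obtain ⟨o, ho, n, hn, -, rfl⟩ := hC a ha ha1 g hg
    exact mul_mem (Subgroup.mem_sup_left (le_iSup (fun a : {a : G // a ∈ A ∧ a ≠ 1} => Oc (a : G))
      ⟨a, ha, ha1⟩ ho)) (hNM hn)
  have hAN : A ≤ Subgroup.normalizer (A : Set G) := Subgroup.le_normalizer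
  have hTN : (T : Subgroup G) ≤ Subgroup.normalizer (A : Set G) := by
    intro t ht
    refine Subgroup.mem_normalizer_iff.2 fun x => ⟨fun hx => hsc x hx t
      (mul_mem (mul_mem ht (hAT hx)) (inv_mem ht)), fun hx => ?_⟩
    have := hsc _ hx t⁻¹ (mul_mem (mul_mem (inv_mem ht) (hAT hx)) (by simpa using ht))
    simpa [mul_assoc] using this
  have ord : ∀ x ∈ A, x ≠ 1 → orderOf x = 2 := fun x hx h1 => Invol.orderOf_two_of_mul_self (h2 x hx) h1
  obtain ⟨a, ha, b, hb, ha1, hb1, hnab⟩ := hab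
  have key : ∀ c ∈ A, c ≠ 1 → ∀ g : G, g * c * g⁻¹ ∈ M := by
    intro c hc hc1 g
    obtain ⟨d, hd, hd1, hnd⟩ : ∃ d ∈ A, d ≠ 1 ∧ ¬ IsConj (g * c * g⁻¹) d := by
      by_cases h : IsConj (g * c * g⁻¹) a
      · exact ⟨b, hb, hb1, fun h' => hnab (h.symm.trans h')⟩
      · exact ⟨a, ha, ha1, h⟩
    set x := g * c * g⁻¹ with hx
    have hx2 : orderOf x = 2 := Invol.conj_orderOf_two (ord c hc hc1) g
    have hd2 := ord d hd hd1
    have hev := Invol.even_of_not_isConj hx2 hd2 hnd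
    set j := Invol.centralInvol x d with hjdef
    have hjd := Invol.centralInvol_comm_right hx2 hd2 hev
    have hjx := Invol.centralInvol_comm_left hx2 hd2 hev
    have hj2 := Invol.orderOf_centralInvol x d hev
    obtain ⟨e, he, he1, g₂, hg₂⟩ : ∃ e ∈ A, e ≠ 1 ∧ ∃ g₂ : G, g₂ * e * g₂⁻¹ = x * j := by
      rcases Invol.left_mul_centralInvol_isConj hx2 hd2 hev with h | h
      · obtain ⟨u, hu⟩ := isConj_iff.1 h
        exact ⟨c, hc, hc1, u * g, by rw [← hu, hx]; group⟩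
      · obtain ⟨u, hu⟩ := isConj_iff.1 h
        exact ⟨d, hd, hd1, u, hu⟩
    have hxj2 : orderOf (x * j) = 2 := hg₂ ▸ Invol.conj_orderOf_two (ord e he he1) g₂
    have hcm : Commute x (x * j) := (Commute.refl x).mul_right hjx.symm
    have hP : IsPGroup 2 ↥(Subgroup.zpowers x ⊔ Subgroup.zpowers (x * j)) := by
      refine IsPGroup.to_sup_of_normal_right' (Transfer.isPGroup_zpowers ⟨1, by rw [hx2]; rfl⟩)
        (Transfer.isPGroup_zpowers ⟨1, by rw [hxj2]; rfl⟩) ?_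
      rw [Subgroup.zpowers_le]
      refine mem_normalizer_of_conj fun y hy => ?_
      obtain ⟨k, rfl⟩ := Subgroup.mem_zpowers_iff.1 hy
      rw [((hcm).zpow_right k).eq, mul_inv_cancel_right]
      exact Subgroup.zpow_mem_zpowers _ k
    obtain ⟨T', hT'⟩ := hP.exists_le_sylow
    obtain ⟨h, hh⟩ := MulAction.exists_smul_eq G T T'
    have hmem : ∀ y ∈ (T' : Subgroup G), h⁻¹ * y * h ∈ (T : Subgroup G) := by
      intro y hy
      rw [← hh] at hy
      obtain ⟨t, ht, rfl⟩ := hy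
      convert ht using 1
      simp [mul_assoc]
      rfl
    have h1 : h⁻¹ * x * h ∈ A := by
      have e1 : h⁻¹ * x * h = (h⁻¹ * g) * c * (h⁻¹ * g)⁻¹ := by rw [hx]; group
      rw [e1]
      exact hsc c hc _ (e1 ▸ hmem x (hT' (Subgroup.mem_sup_left (Subgroup.mem_zpowers x))))
    have h3 : h⁻¹ * (x * j) * h ∈ A := by
      have e1 : h⁻¹ * (x * j) * h = (h⁻¹ * g₂) * e * (h⁻¹ * g₂)⁻¹ := by rw [← hg₂]; group
      rw [e1]
      exact hsc e he _ (e1 ▸ hmem _ (hT' (Subgroup.mem_sup_right (Subgroup.mem_zpowers _))))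
    have hjA : h⁻¹ * j * h ∈ A := by
      have e1 : h⁻¹ * j * h = (h⁻¹ * x * h)⁻¹ * (h⁻¹ * (x * j) * h) := by group
      rw [e1]; exact mul_mem (inv_mem h1) h3
    have hjM : j ∈ M := hCM d hd hd1 (mem_Cn.2 hjd)
    -- a conjugate of `j` inside `M` lies in `A`
    have hTM : (T : Subgroup G) ≤ M := hTN.trans hNM
    have hjP : IsPGroup 2 ↥((Subgroup.zpowers j).subgroupOf M) :=
      (Transfer.isPGroup_zpowers (⟨1, by rw [hj2]; rfl⟩ : ∃ k : ℕ, orderOf j = 2 ^ k)).comap_subtype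
    obtain ⟨R, hR⟩ := hjP.exists_le_sylow
    obtain ⟨m, hm⟩ := MulAction.exists_smul_eq M R (T.subtype hTM)
    have hjT : (m : G) * j * (m : G)⁻¹ ∈ (T : Subgroup G) := by
      have : m * ⟨j, hjM⟩ * m⁻¹ ∈ (T.subtype hTM : Subgroup M) := by
        rw [← hm]
        exact ⟨⟨j, hjM⟩, hR (Subgroup.mem_zpowers j), rfl⟩
      exact this
    have hjA2 : (m : G) * j * (m : G)⁻¹ ∈ A := by
      have e1 : (m : G) * j * (m : G)⁻¹ = ((m : G) * h) * (h⁻¹ * j * h) * ((m : G) * h)⁻¹ := by group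
      rw [e1]
      exact hsc _ hjA _ (e1 ▸ hjT)
    have hne : (m : G) * j * (m : G)⁻¹ ≠ 1 := fun e1 => Invol.ne_one_of_orderOf_two hj2 (conj_eq_one_iff.1 e1)
    have hxm : (m : G) * x * (m : G)⁻¹ ∈ M := hCM _ hjA2 hne (mem_Cn.2 (hjx.symm.map (MulAut.conj (m : G)).toMonoidHom))
    have := mul_mem (mul_mem (inv_mem m.2) hxm) m.2
    simpa [mul_assoc] using this
  -- the normal closure and the Frattini argument
  set L := Subgroup.normalClosure (A : Set G) with hL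
  have hLM : L ≤ M := by
    refine (Subgroup.closure_le M).2 fun y hy => ?_
    obtain ⟨c, hc, hcy⟩ := Group.mem_conjugatesOfSet_iff.1 hy
    obtain ⟨g, rfl⟩ := isConj_iff.1 hcy
    rcases eq_or_ne c 1 with rfl | hc1
    · simp
    · exact key c hc hc1 g
  haveI : L.Normal := Subgroup.normalClosure_normal
  have hMtop : M = ⊤ := by
    rw [eq_top_iff]
    intro g _
    obtain ⟨Q, hQ⟩ : ∃ Q : Sylow 2 L, (Q : Subgroup L) = (T : Subgroup G).subgroupOf L := by
      obtain ⟨Q, hQ⟩ := (T.2.comap_subtype (K := L)).exists_le_sylow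
      obtain ⟨T', hT'⟩ := (Q.2.map L.subtype).exists_le_sylow
      obtain ⟨u, hu⟩ := MulAction.exists_smul_eq G T T'
      refine ⟨Q, (Subgroup.eq_of_le_of_card_ge hQ ?_).symm⟩
      let f : ↥(Q : Subgroup L) → ↥((T : Subgroup G).subgroupOf L) := fun y => ⟨⟨u⁻¹ * ((y : L) : G) * u,
        by simpa using (inferInstance : L.Normal).conj_mem _ (y : L).2 u⁻¹⟩, by
          have hy : ((y : L) : G) ∈ (T' : Subgroup G) := hT' ⟨y, y.2, rfl⟩
          rw [← hu] at hy
          obtain ⟨t, ht, e⟩ := hy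
          show u⁻¹ * ((y : L) : G) * u ∈ (T : Subgroup G)
          rw [← e]; convert ht using 1; simp [mul_assoc]; rfl⟩
      exact Nat.card_le_card_of_injective f fun y₁ y₂ e => Subtype.ext (Subtype.ext
        (mul_left_cancel (a := u⁻¹) (mul_right_cancel (b := u)
          (congrArg (fun z : ↥((T : Subgroup G).subgroupOf L) => ((z : L) : G)) e))))
    have := Sylow.normalizer_sup_eq_top Q
    obtain ⟨n, hn, l, hl, rfl⟩ := Subgroup.mem_sup_of_normal_right.1
      (this ▸ Subgroup.mem_top g)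
    refine mul_mem (hNM ?_) (hLM hl)
    have hn' : ∀ x ∈ A, n * x * n⁻¹ ∈ A := fun x hx => hsc x hx n (by
      have hxQ : x ∈ (Q : Subgroup L).map L.subtype := by
        rw [hQ]; exact ⟨⟨x, Subgroup.subset_normalClosure hx⟩, hAT hx, rfl⟩
      have h := (Subgroup.mem_normalizer_iff.1 hn x).1 hxQ
      rw [hQ] at h
      obtain ⟨y, hy, e⟩ := h
      rw [← e]; exact hy)
    exact mem_normalizer_of_conj hn' 
  haveI hWn : W.Normal := ⟨fun x hx g => by
    have : (⊤ : Subgroup G) ≤ Subgroup.normalizer (W : Set G) := by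
      rw [← hMtop]
      refine sup_le Subgroup.le_normalizer fun n hn => ?_
      exact mem_normalizer_of_conj (hnW n hn)
    exact (Subgroup.mem_normalizer_iff.1 (this (Subgroup.mem_top g)) x).1 hx⟩
  intro g
  obtain ⟨o, ho, n, hn, rfl⟩ := Subgroup.mem_sup_of_normal_left.1
    (show g ∈ W ⊔ Subgroup.normalizer (A : Set G) from hMdef ▸ hMtop ▸ Subgroup.mem_top g)
  refine ⟨o, Transfer.le_pPrimeCore hWn ?_ ho, n, hn, rfl⟩
  exact ((Nat.prime_two.coprime_iff_not_dvd).2 hW2).symm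

end CfsgLib.A8ThreeClass
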