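import Cfsg.Agent.Lib.A8ThreeClass.Setup
import Cfsg.Agent.Lib.A8ThreeClass.Closed
import Cfsg.Agent.Lib.Invol.Dihedral

/-!
The three classes of involutions: the elementary abelian subgroup is strongly closed, and its two orbits
under the normaliser are not fused.
-/

set_option autoImplicit false
set_option linter.style.haveILetI false
set_option linter.unusedSectionVars false

open Cfsg

namespace CfsgLib.A8ThreeClass

variable {G : Type*} [Group G] [Finite G]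

/-- the odd core of a subgroup -/
def Oi (K : Subgroup G) : Subgroup G := (oddCore ↥K).map K.subtype

theorem Oi_le (K : Subgroup G) : Oi K ≤ K := Subgroup.map_subtype_le _

theorem Oi_card_odd (K : Subgroup G) : Odd (Nat.card (Oi K)) := by
  rw [Oi, Subgroup.card_map_of_injective K.subtype_injective, ← Nat.coprime_two_right]
  exact Transfer.pPrimeCore_coprime 2

theorem le_Oi {K U : Subgroup G} (h1 : U ≤ K) (ho : Odd (Nat.card U))
    (hn : ∀ g ∈ K, ∀ u ∈ U, g * u * g⁻¹ ∈ U) : U ≤ Oi K := by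
  intro u hu
  refine ⟨⟨u, h1 hu⟩, Transfer.le_pPrimeCore (N := U.subgroupOf K) ⟨fun x hx g => hn g g.2 x hx⟩ ?_ hu, rfl⟩
  rw [Nat.card_congr (Subgroup.subgroupOfEquivOfLe h1).toEquiv]
  exact Nat.coprime_two_right.2 ho

theorem Oi_conj {K : Subgroup G} {g x : G} (hg : g ∈ Subgroup.normalizer (K : Set G)) (hx : x ∈ Oi K) :
    g * x * g⁻¹ ∈ Oi K := by
  refine le_Oi (U := (Oi K).map (MulAut.conj g).toMonoidHom) ?_ ?_ ?_ ⟨x, hx, rfl⟩
  · rintro _ ⟨y, hy, rfl⟩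
    exact (Subgroup.mem_normalizer_iff.1 hg y).1 (Oi_le K hy)
  · rw [Subgroup.card_map_of_injective (MulAut.conj g).injective]; exact Oi_card_odd K
  · rintro h hh _ ⟨y, hy, rfl⟩
    have hh' : g⁻¹ * h * g ∈ K := by
      simpa using (Subgroup.mem_normalizer_iff.1 (inv_mem hg) h).1 hh
    obtain ⟨y', hy', rfl⟩ := hy
    refine ⟨(g⁻¹ * h * g) * (y' : G) * (g⁻¹ * h * g)⁻¹,
      ⟨⟨_, hh'⟩ * y' * ⟨_, hh'⟩⁻¹, (Transfer.pPrimeCore_normal 2 _).conj_mem y' hy' _, rfl⟩, ?_⟩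
    show g * (g⁻¹ * h * g * (y' : G) * (g⁻¹ * h * g)⁻¹) * g⁻¹ = h * (g * (y' : G) * g⁻¹) * h⁻¹
    group

theorem odd_of_mem {U : Subgroup G} (hU : Odd (Nat.card U)) {x : G} (hx : x ∈ U) : Odd (orderOf x) :=
  hU.of_dvd_nat (Subgroup.orderOf_dvd_natCard _ hx)

/-- an involution inverting an element of odd order is conjugate to the product -/
theorem inverted_conj {U : Subgroup G} (hU : Odd (Nat.card U)) {o s : G} (ho : o ∈ U) (hs : s * s = 1)
    (h : (o * s) * (o * s) = 1) : ∃ p ∈ U, p * s * p⁻¹ = o * s := by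
  obtain ⟨m, hm⟩ := odd_of_mem hU ho
  refine ⟨o ^ (m + 1), pow_mem ho _, ?_⟩
  have hp : o ^ (m + 1) * o ^ (m + 1) = o := by
    rw [← pow_add, show m + 1 + (m + 1) = orderOf o + 1 by omega, pow_succ, pow_orderOf_eq_one, one_mul]
  have e1 : s * o * s⁻¹ = o⁻¹ := by
    rw [inv_eq_of_mul_eq_one_right hs]
    refine (inv_eq_of_mul_eq_one_right ?_).symm
    rw [← h]; group
  have e2 : s * (o ^ (m + 1))⁻¹ * s⁻¹ = o ^ (m + 1) := by
    rw [← conj_inv, ← conj_pow, e1, inv_pow, inv_inv]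
  calc o ^ (m + 1) * s * (o ^ (m + 1))⁻¹ = o ^ (m + 1) * (s * (o ^ (m + 1))⁻¹ * s⁻¹) * s := by group
    _ = o * s := by rw [e2, hp]

/-- every involution is conjugate into a Sylow 2-subgroup -/
theorem exists_conj_mem (R : Sylow 2 G) {P : Subgroup G} (hP : IsPGroup 2 P) :
    ∃ g : G, ∀ x ∈ P, g * x * g⁻¹ ∈ (R : Subgroup G) := by
  haveI := Fact.mk Nat.prime_two
  obtain ⟨T, hT⟩ := hP.exists_le_sylow
  obtain ⟨g, hg⟩ := MulAction.exists_smul_eq G T R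
  refine ⟨g, fun x hx => ?_⟩
  rw [← hg]
  exact ⟨x, hT hx, rfl⟩

namespace Lab

variable {A : Subgroup G} {R : Sylow 2 G} {q : ↥(Subgroup.normalizer (A : Set G)) →* Equiv.Perm (Fin 5)}
  {el : B4 → G} (L : Lab A R q el)
include L

theorem el_mem (x : B4) : el x ∈ A := (L.el_iff _).2 ⟨x, rfl⟩

theorem el_sq (x : B4) : el x * el x = 1 := L.h2 _ (L.el_mem x)

theorem el_inv (x : B4) : (el x)⁻¹ = el x := inv_eq_of_mul_eq_one_right (L.el_sq x)

theorem el_zero : el zb4 = 1 := by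
  have h := L.el_add zb4 zb4
  rw [misc_facts.2.2.2.2.2.1, L.el_sq] at h
  exact h

theorem el_ne {x : B4} (hx : x ≠ zb4) : el x ≠ 1 := fun h => hx (L.el_inj (h.trans L.el_zero.symm))

theorem el_order {x : B4} (hx : x ≠ zb4) : orderOf (el x) = 2 :=
  Invol.orderOf_two_of_mul_self (L.el_sq x) (L.el_ne hx)

theorem comm {a b : G} (ha : a ∈ A) (hb : b ∈ A) : a * b = b * a := by
  have hi : ∀ u ∈ A, u⁻¹ = u := fun u hu => inv_eq_of_mul_eq_one_right (L.h2 u hu)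
  calc a * b = (a * b)⁻¹ := (hi _ (mul_mem ha hb)).symm
    _ = b⁻¹ * a⁻¹ := mul_inv_rev a b
    _ = b * a := by rw [hi a ha, hi b hb]

theorem act_of {n : G} (hn : n ∈ Subgroup.normalizer (A : Set G)) {σ : Equiv.Perm (Fin 5)}
    (h : q ⟨n, hn⟩ = σ) (x : B4) : n * el x * n⁻¹ = el (act σ x) := by
  rw [← h]; exact L.act_eq ⟨n, hn⟩ x

theorem q_one_of_cent {n : G} (hn : n ∈ Subgroup.normalizer (A : Set G)) (hc : ∀ a ∈ A, n * a = a * n) :
    q ⟨n, hn⟩ = 1 := by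
  refine Equiv.ext fun i => zc_inj _ _ (L.el_inj ?_)
  rw [← act_zc _ (L.q_sign _), ← L.act_of hn rfl, hc _ (L.el_mem _), mul_inv_cancel_right]
  rfl

theorem q_A {a : G} (ha : a ∈ A) : q ⟨a, Subgroup.le_normalizer ha⟩ = 1 :=
  L.q_one_of_cent _ fun _ hb => L.comm ha hb

theorem self_cent {t : G} (ht : t ∈ (R : Subgroup G)) (hc : ∀ a ∈ A, t * a = a * t) : t ∈ A :=
  L.qR_ker t ht (L.q_one_of_cent _ hc)

theorem q_ON {o : G} (ho : o ∈ Oi (Subgroup.normalizer (A : Set G))) :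
    q ⟨o, Oi_le _ ho⟩ = 1 := by
  obtain ⟨y, hy, rfl⟩ := ho
  exact L.core_q y hy

theorem ON_comm {o : G} (ho : o ∈ Oi (Subgroup.normalizer (A : Set G))) {a : G} (ha : a ∈ A) :
    o * a = a * o := by
  obtain ⟨x, rfl⟩ := (L.el_iff a).1 ha
  have h := L.act_of (Oi_le _ ho) (L.q_ON ho) x
  rw [act_one] at h
  exact mul_inv_eq_iff_eq_mul.1 h

theorem q_cases {r : G} (hr : r ∈ (R : Subgroup G)) (hrA : r ∉ A) :
    q ⟨r, L.RN hr⟩ = v1 ∨ q ⟨r, L.RN hr⟩ = v2 ∨ q ⟨r, L.RN hr⟩ = v3 := by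
  rcases mem_four.1 (L.qR r hr) with h | h
  · exact absurd (L.qR_ker r hr h) hrA
  · exact h

/-- an involution of the normaliser over the image of an element of `R` is conjugate to one in `R` -/
theorem split_invol {n r : G} (hn : n ∈ Subgroup.normalizer (A : Set G)) (hn2 : n * n = 1)
    (hr : r ∈ (R : Subgroup G)) (hq : q ⟨n, hn⟩ = q ⟨r, L.RN hr⟩) :
    ∃ p ∈ Oi (Subgroup.normalizer (A : Set G)), ∃ s : G, ∃ hs : s ∈ (R : Subgroup G),
      s * s = 1 ∧ q ⟨s, L.RN hs⟩ = q ⟨r, L.RN hr⟩ ∧ p * s * p⁻¹ = n := by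
  obtain ⟨o, ho, a, ha, e⟩ := L.ker_eq (⟨n, hn⟩ * ⟨r, L.RN hr⟩⁻¹) (by rw [map_mul, map_inv, hq, mul_inv_cancel])
  have e' : n = (o : G) * (a * r) := by
    have : n * r⁻¹ = (o : G) * a := e
    rw [← mul_assoc, ← this, inv_mul_cancel_right]
  have hoU : (o : G) ∈ Oi (Subgroup.normalizer (A : Set G)) := ⟨o, ho, rfl⟩
  have hs : a * r ∈ (R : Subgroup G) := mul_mem (L.AR ha) hr
  have hqs : q ⟨a * r, L.RN hs⟩ = q ⟨r, L.RN hr⟩ := by
    rw [show (⟨a * r, L.RN hs⟩ : ↥(Subgroup.normalizer (A : Set G))) =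
      ⟨a, Subgroup.le_normalizer ha⟩ * ⟨r, L.RN hr⟩ from rfl, map_mul, L.q_A ha, one_mul]
  have hsA : (a * r) * (a * r) ∈ A := by
    refine L.qR_ker _ (mul_mem hs hs) ?_
    rw [show (⟨_, L.RN (mul_mem hs hs)⟩ : ↥(Subgroup.normalizer (A : Set G))) =
      ⟨a * r, L.RN hs⟩ * ⟨a * r, L.RN hs⟩ from rfl, map_mul]
    exact (four_fix _ (mem_four.1 (L.qR _ hs))).2.2
  have hs2 : (a * r) * (a * r) = 1 := by
    refine Invol.eq_one_of_odd_of_sq (odd_of_mem (Oi_card_odd (Subgroup.normalizer (A : Set G))) ?_) (L.h2 _ hsA)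
    have h1 : (o : G) * ((a * r) * o * (a * r)⁻¹) * ((a * r) * (a * r)) = 1 := by
      rw [← hn2, e']; group
    rw [eq_inv_of_mul_eq_one_right h1]
    exact inv_mem (mul_mem hoU (Oi_conj (Subgroup.le_normalizer (L.RN hs)) hoU))
  obtain ⟨p, hp, he⟩ := inverted_conj (Oi_card_odd (Subgroup.normalizer (A : Set G))) hoU hs2 (by rw [← e', hn2])
  exact ⟨p, hp, _, hs, hs2, hqs, he.trans e'.symm⟩

/-- involutions of `R` outside `A` are conjugate under the stabiliser in the normaliser of the distinguished point -/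
theorem outside_conj {x y : G} (hx : x ∈ (R : Subgroup G)) (hxA : x ∉ A) (hx2 : x * x = 1)
    (hy : y ∈ (R : Subgroup G)) (hyA : y ∉ A) (hy2 : y * y = 1) :
    ∃ m, ∃ hm : m ∈ Subgroup.normalizer (A : Set G), q ⟨m, hm⟩ 4 = 4 ∧ m * x * m⁻¹ = y := by
  obtain ⟨ρ, hρ, hρ4, hρc⟩ := dbl_conj _ (L.q_cases hx hxA) _ (L.q_cases hy hyA)
  obtain ⟨⟨n, hn⟩, hnq⟩ := L.q_surj ρ hρ
  have hn' : n * x * n⁻¹ ∈ Subgroup.normalizer (A : Set G) := mul_mem (mul_mem hn (L.RN hx)) (inv_mem hn)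
  have hq : q ⟨_, hn'⟩ = q ⟨y, L.RN hy⟩ := by
    rw [show (⟨_, hn'⟩ : ↥(Subgroup.normalizer (A : Set G))) = ⟨n, hn⟩ * ⟨x, L.RN hx⟩ * ⟨n, hn⟩⁻¹ from rfl,
      map_mul, map_mul, map_inv, hnq, hρc]
  obtain ⟨p, hp, s, hs, hs2, hqs, hps⟩ := L.split_invol hn'
    (by rw [show n * x * n⁻¹ * (n * x * n⁻¹) = n * (x * x) * n⁻¹ by group, hx2]; group) hy hq
  obtain ⟨c, hc⟩ := (L.el_iff (s * y⁻¹)).1 (L.qR_ker _ (mul_mem hs (inv_mem hy)) (by
    rw [show (⟨_, L.RN (mul_mem hs (inv_mem hy))⟩ : ↥(Subgroup.normalizer (A : Set G))) =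
      ⟨s, L.RN hs⟩ * ⟨y, L.RN hy⟩⁻¹ from rfl, map_mul, map_inv, hqs, mul_inv_cancel]))
  have hsy : s = el c * y := by rw [hc]; group
  have hcf : act (q ⟨y, L.RN hy⟩) c = c := by
    refine L.el_inj ?_
    rw [← L.act_of (L.RN hy) rfl]
    have h1 : el c * y * (el c * y) = 1 := by rw [← hsy]; exact hs2
    have h2 : y * el c * y⁻¹ = (el c)⁻¹ := by
      rw [inv_eq_of_mul_eq_one_right hy2]
      refine (inv_eq_of_mul_eq_one_right ?_).symm
      rw [← h1]; group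
    rw [h2, L.el_inv]
  obtain ⟨-, d, hd⟩ := fixed_comm _ (L.q_cases hy hyA) c hcf
  have hdy : el d * y * (el d)⁻¹ = s := by
    calc el d * y * (el d)⁻¹ = el d * (y * (el d)⁻¹ * y⁻¹) * y := by group
      _ = s := by rw [L.el_inv, L.act_of (L.RN hy) rfl, ← L.el_add, hd, ← hsy]
  have hd' : el d ∈ Subgroup.normalizer (A : Set G) := Subgroup.le_normalizer (L.el_mem d)
  refine ⟨(el d)⁻¹ * (p⁻¹ * n), mul_mem (inv_mem hd') (mul_mem (inv_mem (Oi_le _ hp)) hn), ?_, ?_⟩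
  · show q (⟨el d, hd'⟩⁻¹ * (⟨p, Oi_le _ hp⟩⁻¹ * ⟨n, hn⟩)) 4 = 4
    rw [map_mul, map_mul, map_inv, map_inv, L.q_A (L.el_mem d), L.q_ON hp, hnq]
    simpa using hρ4
  · calc (el d)⁻¹ * (p⁻¹ * n) * x * ((el d)⁻¹ * (p⁻¹ * n))⁻¹
        = (el d)⁻¹ * (p⁻¹ * (n * x * n⁻¹) * p) * el d := by group
      _ = (el d)⁻¹ * s * el d := by rw [← hps]; group
      _ = y := by rw [← hdy]; group

theorem conj_zc (i j : Fin 5) :
    ∃ n ∈ Subgroup.normalizer (A : Set G), n * el (zc i) * n⁻¹ = el (zc j) := by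
  obtain ⟨σ, hσ, hi⟩ := trans_four i
  obtain ⟨τ, hτ, hj⟩ := trans_four j
  obtain ⟨⟨n, hn⟩, hnq⟩ := L.q_surj (τ * σ⁻¹) (by
    rw [map_mul, map_inv, hσ, hτ]; rfl)
  refine ⟨n, hn, ?_⟩
  rw [L.act_of hn hnq, act_zc _ (hnq ▸ L.q_sign _), Equiv.Perm.mul_apply, Equiv.Perm.inv_eq_iff_eq.2 hi.symm, hj]

theorem conj_pair {i j k l : Fin 5} (hij : i ≠ j) (hkl : k ≠ l) :
    ∃ n, ∃ hn : n ∈ Subgroup.normalizer (A : Set G), q ⟨n, hn⟩ i = k ∧ q ⟨n, hn⟩ j = l ∧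
      n * el (xr (zc i) (zc j)) * n⁻¹ = el (xr (zc k) (zc l)) := by
  obtain ⟨σ, hσ, hi, hj⟩ := two_trans i j k l hij hkl
  obtain ⟨⟨n, hn⟩, hnq⟩ := L.q_surj σ hσ
  refine ⟨n, hn, by rw [hnq, hi], by rw [hnq, hj], ?_⟩
  rw [L.el_add, L.el_add, ← conj_mul, L.act_of hn hnq, L.act_of hn hnq, act_zc _ hσ, act_zc _ hσ, hi, hj]

theorem isConj_reps {x : B4} (hx : x ≠ zb4) :
    IsConj (el (zc 4)) (el x) ∨ IsConj (el u01) (el x) := by
  rcases classify x with h | ⟨i, rfl⟩ | ⟨i, j, hij, rfl⟩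
  · exact absurd h hx
  · obtain ⟨n, -, h⟩ := L.conj_zc 4 i
    exact Or.inl (isConj_iff.2 ⟨n, h⟩)
  · obtain ⟨n, hn, -, -, h⟩ := L.conj_pair (show (0 : Fin 5) ≠ 1 by decide) hij
    exact Or.inr (isConj_iff.2 ⟨n, h⟩)

/-- **Three classes of involutions.** -/
theorem classes (h3 : Nat.card {c : ConjClasses G // ∃ x ∈ c.carrier, orderOf x = 2} = 3) :
    ¬ IsConj (el (zc 4)) (el u01) ∧ ∃ s : G, s ∈ (R : Subgroup G) ∧ s ∉ A ∧ s * s = 1 ∧
      ¬ IsConj (el (zc 4)) s ∧ ¬ IsConj (el u01) s := by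
  haveI := Fact.mk Nat.prime_two
  have hcov : ∀ r₁ r₂ : G, (∀ x ∈ (R : Subgroup G), orderOf x = 2 → IsConj r₁ x ∨ IsConj r₂ x) → False := by
    intro r₁ r₂ h
    have hsub : {c : ConjClasses G | ∃ x ∈ c.carrier, orderOf x = 2} ⊆
        {ConjClasses.mk r₁, ConjClasses.mk r₂} := by
      rintro c ⟨x, hx, hx2⟩
      have hc : ConjClasses.mk x = c := ConjClasses.mem_carrier_iff_mk_eq.1 hx
      obtain ⟨g, hg⟩ := exists_conj_mem R (Transfer.isPGroup_zpowers (p := 2) (x := x) ⟨1, by rw [hx2]; rfl⟩)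
      have hgx : IsConj x (g * x * g⁻¹) := isConj_iff.2 ⟨g, rfl⟩
      rcases h _ (hg x (Subgroup.mem_zpowers x)) (Invol.conj_orderOf_two hx2 g) with h' | h'
      · exact Or.inl (by rw [← hc]; exact ConjClasses.mk_eq_mk_iff_isConj.2 (hgx.trans h'.symm))
      · exact Or.inr (by rw [← hc]; exact ConjClasses.mk_eq_mk_iff_isConj.2 (hgx.trans h'.symm))
    have h4 : Set.ncard {c : ConjClasses G | ∃ x ∈ c.carrier, orderOf x = 2} ≤ 2 :=
      (Set.ncard_le_ncard hsub (Set.toFinite _)).trans ((Set.ncard_insert_le _ _).trans (by simp))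
    rw [← Nat.card_coe_set_eq, Set.coe_ofPred, h3] at h4
    omega
  have hin : ∀ x ∈ A, orderOf x = 2 → IsConj (el (zc 4)) x ∨ IsConj (el u01) x := by
    intro x hx hx2
    obtain ⟨c, rfl⟩ := (L.el_iff x).1 hx
    exact L.isConj_reps fun e => Invol.ne_one_of_orderOf_two hx2 (by rw [e, L.el_zero])
  by_cases hout : ∃ s : G, s ∈ (R : Subgroup G) ∧ s ∉ A ∧ s * s = 1
  · obtain ⟨s, hs, hsA, hs2⟩ := hout
    have hso : ∀ x ∈ (R : Subgroup G), orderOf x = 2 →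
        IsConj (el (zc 4)) x ∨ IsConj (el u01) x ∨ IsConj s x := by
      intro x hx hx2
      by_cases hxA : x ∈ A
      · rcases hin x hxA hx2 with h | h
        · exact Or.inl h
        · exact Or.inr (Or.inl h)
      · obtain ⟨m, -, -, hm⟩ := L.outside_conj hs hsA hs2 hx hxA (Invol.mul_self_of_orderOf_two hx2)
        exact Or.inr (Or.inr (isConj_iff.2 ⟨m, hm⟩))
    refine ⟨fun h => hcov (el (zc 4)) s fun x hx hx2 => ?_, s, hs, hsA, hs2,
      fun h => hcov (el (zc 4)) (el u01) fun x hx hx2 => ?_, fun h => hcov (el (zc 4)) (el u01) fun x hx hx2 => ?_⟩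
    · rcases hso x hx hx2 with h' | h' | h'
      · exact Or.inl h'
      · exact Or.inl (h.trans h')
      · exact Or.inr h'
    · rcases hso x hx hx2 with h' | h' | h'
      · exact Or.inl h'
      · exact Or.inr h'
      · exact Or.inl (h.trans h')
    · rcases hso x hx hx2 with h' | h' | h'
      · exact Or.inl h'
      · exact Or.inr h'
      · exact Or.inr (h.trans h')
  · refine (hcov (el (zc 4)) (el u01) fun x hx hx2 => hin x ?_ hx2).elim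
    exact by_contra fun hxA => hout ⟨x, hx, hxA, Invol.mul_self_of_orderOf_two hx2⟩

/-- **`A` is strongly closed.** -/
theorem strongly_closed (h3 : Nat.card {c : ConjClasses G // ∃ x ∈ c.carrier, orderOf x = 2} = 3) :
    ∀ x ∈ A, ∀ g : G, g * x * g⁻¹ ∈ (R : Subgroup G) → g * x * g⁻¹ ∈ A := by
  obtain ⟨-, s, hs, hsA, hs2, hzs, hus⟩ := L.classes h3
  intro x hx g hg
  by_contra hgA
  obtain ⟨c, rfl⟩ := (L.el_iff x).1 hx
  have h1 : (g * el c * g⁻¹) * (g * el c * g⁻¹) = 1 := by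
    rw [show g * el c * g⁻¹ * (g * el c * g⁻¹) = g * (el c * el c) * g⁻¹ by group, L.el_sq]; group
  obtain ⟨m, -, -, hm⟩ := L.outside_conj hg hgA h1 hs hsA hs2
  have hcs : IsConj (el c) s := (isConj_iff.2 ⟨g, rfl⟩ : IsConj (el c) (g * el c * g⁻¹)).trans (isConj_iff.2 ⟨m, hm⟩)
  have hc : c ≠ zb4 := by
    rintro rfl
    rw [L.el_zero] at hgA
    exact hgA (by rw [mul_one, mul_inv_cancel]; exact one_mem _)
  rcases L.isConj_reps hc with h | h
  · exact hzs (h.trans hcs)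
  · exact hus (h.trans hcs)

theorem isz_fusion (h3 : Nat.card {c : ConjClasses G // ∃ x ∈ c.carrier, orderOf x = 2} = 3)
    {x y : B4} (h : IsConj (el x) (el y)) : isz x = isz y := by
  obtain ⟨hzu, -⟩ := L.classes h3
  rcases classify x with rfl | ⟨i, rfl⟩ | ⟨i, j, hij, rfl⟩
  · rw [L.el_zero] at h
    rw [L.el_inj ((isConj_one_right.1 h).trans L.el_zero.symm)]
  all_goals
    rcases classify y with rfl | ⟨k, rfl⟩ | ⟨k, l, hkl, rfl⟩
    try (rw [L.el_zero] at h; exact absurd (L.el_inj ((isConj_one_left.1 h).trans L.el_zero.symm)) (by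
      first
        | exact fun e => absurd (congrArg isz e) (by rw [isz_zc, misc_facts.2.2.2.2.1]; decide)
        | exact (isz_pair _ _ hij).2))
  · rw [isz_zc, isz_zc]
  · exfalso
    obtain ⟨n, -, hn⟩ := L.conj_zc 4 i
    obtain ⟨m, -, -, -, hm⟩ := L.conj_pair (show (0 : Fin 5) ≠ 1 by decide) hkl
    exact hzu (((isConj_iff.2 ⟨n, hn⟩).trans h).trans (isConj_iff.2 ⟨m, hm⟩ : IsConj (el u01) _).symm)
  · exfalso
    obtain ⟨n, -, hn⟩ := L.conj_zc 4 k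
    obtain ⟨m, -, -, -, hm⟩ := L.conj_pair (show (0 : Fin 5) ≠ 1 by decide) hij
    exact hzu ((isConj_iff.2 ⟨n, hn⟩).trans (((isConj_iff.2 ⟨m, hm⟩ : IsConj (el u01) _).trans h).symm))
  · rw [(isz_pair _ _ hij).1, (isz_pair _ _ hkl).1]

/-- two commuting involution lifts of generators of the four-group -/
theorem exists_lifts (h3 : Nat.card {c : ConjClasses G // ∃ x ∈ c.carrier, orderOf x = 2} = 3) :
    ∃ s₁ s₂ : G, ∃ h₁ : s₁ ∈ (R : Subgroup G), ∃ h₂ : s₂ ∈ (R : Subgroup G), s₁ * s₁ = 1 ∧ s₂ * s₂ = 1 ∧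
      s₁ * s₂ = s₂ * s₁ ∧ q ⟨s₁, L.RN h₁⟩ = v1 ∧ q ⟨s₂, L.RN h₂⟩ = v2 := by
  obtain ⟨-, x, hx, hxA, hx2, -⟩ := L.classes h3
  have lift : ∀ τ : Equiv.Perm (Fin 5), (τ = v1 ∨ τ = v2 ∨ τ = v3) →
      ∃ s : G, ∃ hs : s ∈ (R : Subgroup G), s * s = 1 ∧ q ⟨s, L.RN hs⟩ = τ := by
    intro τ hτ
    obtain ⟨ρ, hρ, -, hρc⟩ := dbl_conj _ (L.q_cases hx hxA) τ hτ
    obtain ⟨⟨n, hn⟩, hnq⟩ := L.q_surj ρ hρ
    obtain ⟨r, hr, hrq⟩ := L.qR_surj τ (mem_four.2 (Or.inr hτ))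
    obtain ⟨p, -, s, hs, hs2, hqs, -⟩ := L.split_invol (mul_mem (mul_mem hn (L.RN hx)) (inv_mem hn))
      (by rw [show n * x * n⁻¹ * (n * x * n⁻¹) = n * (x * x) * n⁻¹ by group, hx2]; group) hr (by
      show q (⟨n, hn⟩ * ⟨x, L.RN hx⟩ * ⟨n, hn⟩⁻¹) = _
      rw [map_mul, map_mul, map_inv, hnq, hρc, hrq])
    exact ⟨s, hs, hs2, hqs.trans hrq⟩
  obtain ⟨s, hs, hs2, hsq⟩ := lift v1 (Or.inl rfl)
  obtain ⟨t, ht, ht2, htq⟩ := lift v2 (Or.inr (Or.inl rfl))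
  have hst : s * t ∈ (R : Subgroup G) := mul_mem hs ht
  have hstq : q ⟨s * t, L.RN hst⟩ = v3 := by
    rw [show (⟨s * t, L.RN hst⟩ : ↥(Subgroup.normalizer (A : Set G))) = ⟨s, L.RN hs⟩ * ⟨t, L.RN ht⟩ from rfl,
      map_mul, hsq, htq, misc_facts.1]
  obtain ⟨c, hc⟩ := (L.el_iff ((s * t) * (s * t))).1 (L.qR_ker _ (mul_mem hst hst) (by
    rw [show (⟨_, L.RN (mul_mem hst hst)⟩ : ↥(Subgroup.normalizer (A : Set G))) =
      ⟨s * t, L.RN hst⟩ * ⟨s * t, L.RN hst⟩ from rfl, map_mul, hstq]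
    exact (four_fix v3 (Or.inr (Or.inr (Or.inr rfl)))).2.2))
  have hsi : s⁻¹ = s := inv_eq_of_mul_eq_one_right hs2
  have hti : t⁻¹ = t := inv_eq_of_mul_eq_one_right ht2
  have hcs : act v1 c = c := L.el_inj (by
    rw [← L.act_of (L.RN hs) hsq, hc, show s * (s * t * (s * t)) * s⁻¹ = (s * s) * t * (s * t) * s⁻¹ by group,
      hs2, one_mul, hsi]
    calc t * (s * t) * s = (s⁻¹ * t⁻¹ * (s⁻¹ * t⁻¹))⁻¹ := by group
      _ = (s * t * (s * t))⁻¹ := by rw [hsi, hti]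
      _ = s * t * (s * t) := by rw [← hc, L.el_inv])
  have hct : act v2 c = c := L.el_inj (by
    rw [← L.act_of (L.RN ht) htq, hc, show t * (s * t * (s * t)) * t⁻¹ = t * (s * t) * s * (t * t⁻¹) by group,
      mul_inv_cancel, mul_one]
    calc t * (s * t) * s = (s⁻¹ * t⁻¹ * (s⁻¹ * t⁻¹))⁻¹ := by group
      _ = (s * t * (s * t))⁻¹ := by rw [hsi, hti]
      _ = s * t * (s * t) := by rw [← hc, L.el_inv])
  rcases fix_all c ⟨hcs, hct⟩ with rfl | rfl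
  · refine ⟨s, t, hs, ht, hs2, ht2, ?_, hsq, htq⟩
    rw [L.el_zero] at hc
    calc s * t = (s * t)⁻¹ := (inv_eq_of_mul_eq_one_right hc.symm).symm
      _ = t * s := by rw [mul_inv_rev, hsi, hti]
  · set w := xr (zc 0) (zc 2)
    have ht' : t * el w ∈ (R : Subgroup G) := mul_mem ht (L.AR (L.el_mem w))
    have htw : t * el w * t⁻¹ = el w := by rw [L.act_of (L.RN ht) htq, complement_fix.1]
    have ht'2 : t * el w * (t * el w) = 1 := by
      calc t * el w * (t * el w) = (t * el w * t⁻¹) * (t * t) * el w := by group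
        _ = 1 := by rw [htw, ht2, mul_one, L.el_sq]
    have hsq2 : s * (t * el w) * (s * (t * el w)) = 1 := by
      have hw := L.act_of (L.RN hst) hstq w
      calc s * (t * el w) * (s * (t * el w))
          = (s * t * el w * (s * t)⁻¹) * (s * t * (s * t)) * el w := by group
        _ = el (xr (act v3 w) (xr (zc 4) w)) := by rw [hw, ← hc, ← L.el_add, ← L.el_add]; rw [xr_assoc]
        _ = el zb4 := by rw [complement_w]
        _ = 1 := L.el_zero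
    refine ⟨s, t * el w, hs, ht', hs2, ht'2, ?_, hsq, ?_⟩
    · calc s * (t * el w) = (s * (t * el w))⁻¹ := (inv_eq_of_mul_eq_one_right hsq2).symm
        _ = t * el w * s := by rw [mul_inv_rev, hsi, inv_eq_of_mul_eq_one_right ht'2]
    · rw [show (⟨t * el w, L.RN ht'⟩ : ↥(Subgroup.normalizer (A : Set G))) =
        ⟨t, L.RN ht⟩ * ⟨el w, Subgroup.le_normalizer (L.el_mem w)⟩ from rfl, map_mul, htq, L.q_A (L.el_mem w),
        mul_one]

end Lab

end CfsgLib.A8ThreeClass
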