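import Mathlib

/-!
The four-dimensional permutation module of the alternating group of degree five, coded by four bits.
-/

set_option autoImplicit false
set_option maxRecDepth 4000
set_option synthInstance.maxSize 1024

namespace CfsgLib.A8ThreeClass

abbrev B4 := Fin 4 → Bool

/-- the code of zero -/
def zb4 : B4 := fun _ => false

/-- the sum of codes -/
def xr (x y : B4) : B4 := fun i => xor (x i) (y i)

/-- the unit vectors -/
def un (i : Fin 4) : B4 := fun j => decide (i = j)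

/-- the five distinguished vectors -/
def zc : Fin 5 → B4 := ![un 0, un 1, un 2, un 3, fun _ => true]

/-- multiply by a bit -/
def bs (b : Bool) (x : B4) : B4 := bif b then x else zb4

/-- the action of a permutation -/
def act (σ : Equiv.Perm (Fin 5)) (x : B4) : B4 :=
  xr (bs (x 0) (zc (σ 0))) (xr (bs (x 1) (zc (σ 1))) (xr (bs (x 2) (zc (σ 2))) (bs (x 3) (zc (σ 3)))))

/-- vectors of the orbit of five -/
def isz (x : B4) : Bool := decide (∃ i : Fin 5, x = zc i)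

/-- the parity -/
def par (x : B4) : Bool := xor (xor (x 0) (x 1)) (xor (x 2) (x 3))

/-- the vector of the orbit of ten used as reference -/
def u01 : B4 := xr (zc 0) (zc 1)

/-- the first double transposition -/
def v1 : Equiv.Perm (Fin 5) := Equiv.swap 0 1 * Equiv.swap 2 3
/-- the second double transposition -/
def v2 : Equiv.Perm (Fin 5) := Equiv.swap 0 2 * Equiv.swap 1 3
/-- the third double transposition -/
def v3 : Equiv.Perm (Fin 5) := Equiv.swap 0 3 * Equiv.swap 1 2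

/-- the four-group fixing the last point -/
def four : Subgroup (Equiv.Perm (Fin 5)) where
  carrier := {σ | σ = 1 ∨ σ = v1 ∨ σ = v2 ∨ σ = v3}
  one_mem' := Or.inl rfl
  mul_mem' := by
    rintro a b (rfl | rfl | rfl | rfl) (rfl | rfl | rfl | rfl) <;>
      simp only [Set.mem_ofPred_eq] <;> decide +kernel
  inv_mem' := by
    rintro a (rfl | rfl | rfl | rfl) <;> simp only [Set.mem_ofPred_eq] <;> decide +kernel

theorem mem_four {σ : Equiv.Perm (Fin 5)} : σ ∈ four ↔ σ = 1 ∨ σ = v1 ∨ σ = v2 ∨ σ = v3 := Iff.rfl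

theorem four_fix : ∀ σ : Equiv.Perm (Fin 5), (σ = 1 ∨ σ = v1 ∨ σ = v2 ∨ σ = v3) → σ 4 = 4 ∧
    Equiv.Perm.sign σ = 1 ∧ σ * σ = 1 := by decide +kernel

theorem four_card : Nat.card four = 4 := by
  rw [Nat.card_congr (Equiv.subtypeEquivRight (fun σ => show σ ∈ four ↔
    σ ∈ ({1, v1, v2, v3} : Finset (Equiv.Perm (Fin 5))) by rw [mem_four]; simp))]
  rw [Nat.card_eq_fintype_card, Fintype.card_coe]
  decide +kernel

theorem stab_four : ∀ σ : Equiv.Perm (Fin 5), Equiv.Perm.sign σ = 1 → σ 4 = 4 →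
    ∀ τ : Equiv.Perm (Fin 5), (τ = 1 ∨ τ = v1 ∨ τ = v2 ∨ τ = v3) →
      (σ * τ * σ⁻¹ = 1 ∨ σ * τ * σ⁻¹ = v1 ∨ σ * τ * σ⁻¹ = v2 ∨ σ * τ * σ⁻¹ = v3) := by decide +kernel

theorem two_trans : ∀ i j k l : Fin 5, i ≠ j → k ≠ l →
    ∃ σ : Equiv.Perm (Fin 5), Equiv.Perm.sign σ = 1 ∧ σ i = k ∧ σ j = l := by decide +kernel

theorem trans_four : ∀ k : Fin 5, ∃ σ : Equiv.Perm (Fin 5), Equiv.Perm.sign σ = 1 ∧ σ 4 = k := by
  decide +kernel

theorem three_cycle : ∀ i j k l : Fin 5, i ≠ j → i ≠ k → j ≠ k → l ≠ i → l ≠ j → l ≠ k →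
    ∃ σ : Equiv.Perm (Fin 5), Equiv.Perm.sign σ = 1 ∧ σ i = i ∧ σ j = j ∧ σ k = l := by decide +kernel

theorem four_cycle : ∀ i j k l : Fin 5, i ≠ j → i ≠ k → i ≠ l → j ≠ k → j ≠ l → k ≠ l →
    ∃ σ : Equiv.Perm (Fin 5), Equiv.Perm.sign σ = 1 ∧ σ i = i ∧ σ j = j ∧ σ k = l ∧ σ l ≠ k := by decide +kernel

theorem dbl_conj : ∀ σ : Equiv.Perm (Fin 5), (σ = v1 ∨ σ = v2 ∨ σ = v3) → ∀ τ : Equiv.Perm (Fin 5),
    (τ = v1 ∨ τ = v2 ∨ τ = v3) →
      ∃ ρ : Equiv.Perm (Fin 5), Equiv.Perm.sign ρ = 1 ∧ ρ 4 = 4 ∧ ρ * σ * ρ⁻¹ = τ := by decide +kernel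

theorem five_cycle : ∃ σ : Equiv.Perm (Fin 5), Equiv.Perm.sign σ = 1 ∧ orderOf σ = 5 := by
  refine ⟨Equiv.swap 0 1 * Equiv.swap 1 2 * Equiv.swap 2 3 * Equiv.swap 3 4, by decide +kernel, ?_⟩
  have := Fact.mk (show Nat.Prime 5 by norm_num)
  exact orderOf_eq_prime (by decide +kernel) (by decide +kernel)

theorem exists_other : ∀ i j k : Fin 5, ∃ l : Fin 5, l ≠ i ∧ l ≠ j ∧ l ≠ k := by decide +kernel

theorem zc_inj : ∀ i j : Fin 5, zc i = zc j → i = j := by decide +kernel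

theorem classify : ∀ x : B4, x = zb4 ∨ (∃ i, x = zc i) ∨ ∃ i j, i ≠ j ∧ x = xr (zc i) (zc j) := by
  decide +kernel

theorem isz_zc : ∀ i, isz (zc i) = true := by decide +kernel

theorem isz_pair : ∀ i j, i ≠ j → isz (xr (zc i) (zc j)) = false ∧ xr (zc i) (zc j) ≠ zb4 := by decide +kernel

/-- with `b` in the orbit of ten, exactly one pair of the orbit of five differs by `b` -/
theorem pair_unique : ∀ a b c : B4, isz a = true → isz (xr a b) = true → b ≠ zb4 → isz b = false →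
    isz c = true → isz (xr c b) = true → a = c ∨ a = xr c b := by decide +kernel

theorem par_facts : par (zc 4) = false ∧ par (xr (zc 0) (zc 4)) = true ∧ par u01 = false ∧
    isz (xr (zc 0) (zc 4)) = false ∧ xr (xr (zc 0) (zc 4)) (zc 4) = zc 0 ∧ isz u01 = false ∧ u01 ≠ zb4 := by
  decide +kernel

theorem par_add : ∀ x y : B4, par (xr x y) = xor (par x) (par y) := by decide +kernel

/-- membership in the kernel of the parity -/
theorem par_char : ∀ x : B4, x ≠ zb4 → x ≠ zc 4 →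
    (par x = false ↔ (isz x = false ∧ isz (xr x (zc 4)) = false)) := by decide +kernel

theorem act_par : ∀ σ : Equiv.Perm (Fin 5), (σ = 1 ∨ σ = v1 ∨ σ = v2 ∨ σ = v3) → ∀ x : B4,
    par (act σ x) = par x := by decide +kernel

theorem act_four : ∀ σ : Equiv.Perm (Fin 5), (σ = 1 ∨ σ = v1 ∨ σ = v2 ∨ σ = v3) → ∀ x : B4,
    act σ (act σ x) = x ∧ (par x = false → (act σ x = x ∨ act σ x = xr x (zc 4))) := by decide +kernel

/-- fixed vectors of an element of the four-group are commutators -/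
theorem fixed_comm : ∀ σ : Equiv.Perm (Fin 5), (σ = v1 ∨ σ = v2 ∨ σ = v3) → ∀ x : B4, act σ x = x →
    par x = false ∧ ∃ y : B4, xr y (act σ y) = x := by decide +kernel

theorem fix_all : ∀ x : B4, (act v1 x = x ∧ act v2 x = x) → x = zb4 ∨ x = zc 4 := by decide +kernel

theorem complement_fix : act v2 (xr (zc 0) (zc 2)) = xr (zc 0) (zc 2) ∧
    xr (act v3 (xr (zc 0) (zc 2))) (xr (zc 0) (zc 2)) = zc 4 := by decide +kernel

/-- only the identity fixes all even vectors -/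
theorem even_faithful : ∀ σ : Equiv.Perm (Fin 5), (σ = v1 ∨ σ = v2 ∨ σ = v3) →
    ∃ x : B4, par x = false ∧ act σ x ≠ x := by decide +kernel

/-- an element of the four-group fixes exactly one of the three classes of even vectors -/
theorem one_class : ∀ σ : Equiv.Perm (Fin 5), (σ = v1 ∨ σ = v2 ∨ σ = v3) → ∃ w : B4, par w = false ∧
    w ≠ zb4 ∧ w ≠ zc 4 ∧ ∀ x : B4, par x = false → x ≠ zb4 → x ≠ zc 4 → act σ x = x → x = w ∨ x = xr w (zc 4) := by
  decide +kernel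

theorem even_four : ∀ x y w : B4, par x = false → par y = false → par w = false → x ≠ zb4 → x ≠ zc 4 →
    y ≠ zb4 → y ≠ zc 4 → w ≠ zb4 → w ≠ zc 4 → y ≠ x → y ≠ xr x (zc 4) → w ≠ x → w ≠ xr x (zc 4) →
    w ≠ y → w ≠ xr y (zc 4) → xr x (xr y w) = zb4 ∨ xr x (xr y w) = zc 4 := by decide +kernel

theorem act_zc : ∀ σ : Equiv.Perm (Fin 5), Equiv.Perm.sign σ = 1 → ∀ i, act σ (zc i) = zc (σ i) := by
  decide +kernel

theorem act_one : ∀ x : B4, act 1 x = x := by decide +kernel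

theorem misc_facts : v1 * v2 = v3 ∧ v1 ≠ 1 ∧ v2 ≠ 1 ∧ v3 ≠ 1 ∧ isz zb4 = false ∧ xr zb4 zb4 = zb4 ∧
    zc 4 ≠ zb4 ∧ par zb4 = false := by decide +kernel

theorem xr_assoc : ∀ x y z : B4, xr (xr x y) z = xr x (xr y z) := fun x y z => funext fun i => Bool.xor_assoc _ _ _

theorem complement_w : xr (act v3 (xr (zc 0) (zc 2))) (xr (zc 4) (xr (zc 0) (zc 2))) = zb4 := by decide +kernel

theorem xr_facts : ∀ x y : B4, xr x x = zb4 ∧ xr x zb4 = x ∧ xr x y = xr y x ∧ xr (xr x y) y = x := fun x y =>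
  ⟨funext fun i => Bool.xor_self _, funext fun i => Bool.xor_false _, funext fun i => Bool.xor_comm _ _,
    funext fun i => by show xor (xor (x i) (y i)) (y i) = x i; cases x i <;> cases y i <;> rfl⟩

theorem act_even : ∀ σ : Equiv.Perm (Fin 5), (σ = 1 ∨ σ = v1 ∨ σ = v2 ∨ σ = v3) → ∀ x : B4,
    par x = false → (xr x (act σ x) = zb4 ∨ xr x (act σ x) = zc 4) := by decide +kernel

theorem span_sum : ∀ x b c : B4, par x = false → x ≠ zb4 → x ≠ zc 4 → par b = false → par c = false →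
    (b ≠ zb4 ∧ b ≠ zc 4 ∧ b ≠ x ∧ b ≠ xr x (zc 4)) → (c ≠ zb4 ∧ c ≠ zc 4 ∧ c ≠ x ∧ c ≠ xr x (zc 4)) →
    (xr b c = zb4 ∨ xr b c = zc 4 ∨ xr b c = x ∨ xr b c = xr x (zc 4)) := by decide +kernel

theorem one_class_fix : ∀ σ : Equiv.Perm (Fin 5), (σ = v1 ∨ σ = v2 ∨ σ = v3) →
    ∃ b : B4, (par b = false ∧ b ≠ zb4 ∧ b ≠ zc 4) ∧ act σ b = b := by decide +kernel

theorem fix_of_shift : ∀ σ : Equiv.Perm (Fin 5), (σ = v1 ∨ σ = v2 ∨ σ = v3) → ∀ w : B4, par w = false →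
    act σ (xr w (zc 4)) = xr w (zc 4) → act σ w = w := by decide +kernel

/-- every even vector is fixed by an element of the four-group -/
theorem cover_fix : ∀ x : B4, par x = false →
    ∃ σ : Equiv.Perm (Fin 5), (σ = v1 ∨ σ = v2 ∨ σ = v3) ∧ act σ x = x := by decide +kernel

end CfsgLib.A8ThreeClass
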