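import Cfsg.Agent.Lib.A8ThreeClass.CentU

/-!
The elementary abelian subgroup of order sixteen is normal modulo the core.
-/

set_option autoImplicit false
set_option linter.style.haveILetI false
set_option linter.unusedSectionVars false

open Cfsg

namespace CfsgLib.A8ThreeClass

variable {G : Type*} [Group G] [Finite G]

theorem normal_sup
    (hS : ∀ Q : Sylow 2 G, ∀ P : Sylow 2 ↥(alternatingGroup (Fin 8)),
      Nonempty (↥(Q : Subgroup G) ≃* ↥(P : Subgroup ↥(alternatingGroup (Fin 8)))))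
    (h3 : Nat.card {c : ConjClasses G // ∃ x ∈ c.carrier, orderOf x = 2} = 3)
    {A : Subgroup G} (h2 : ∀ a ∈ A, a * a = 1) (h16 : Nat.card A = 16)
    (hn : (A.subgroupOf (Subgroup.normalizer (A : Set G)) ⊔ oddCore ↥(Subgroup.normalizer (A : Set G))).Normal)
    (e : ↥(Subgroup.normalizer (A : Set G)) ⧸
      (A.subgroupOf (Subgroup.normalizer (A : Set G)) ⊔ oddCore ↥(Subgroup.normalizer (A : Set G))) ≃*
        ↥(alternatingGroup (Fin 5))) :
    (A ⊔ oddCore G).Normal := by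
  obtain ⟨R, q, el, L⟩ := exists_lab hS h2 h16 hn e
  have h64 := (sylow_facts hS R).1
  obtain ⟨hzu, -⟩ := L.classes h3
  have hmain := closed_main R h2 (by omega) L.AR (L.strongly_closed h3) (fun t ht hc => L.self_cent ht hc)
    (L.split_all h3 h64) ⟨_, L.el_mem (zc 4), _, L.el_mem u01, L.el_ne misc_facts.2.2.2.2.2.2.1,
      L.el_ne par_facts.2.2.2.2.2.2, hzu⟩
  haveI hO : (oddCore G).Normal := Transfer.pPrimeCore_normal 2 G
  refine ⟨fun x hx g => ?_⟩
  obtain ⟨a, ha, c, hc, rfl⟩ := Subgroup.mem_sup_of_normal_right.1 hx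
  obtain ⟨o, ho, n, hn', rfl⟩ := hmain g
  have ha' : n * a * n⁻¹ ∈ A := (Subgroup.mem_normalizer_iff.1 hn' a).1 ha
  have ho' : o ∈ A ⊔ oddCore G := Subgroup.mem_sup_right ho
  rw [show o * n * (a * c) * (o * n)⁻¹ = o * (n * a * n⁻¹) * o⁻¹ * ((o * n) * c * (o * n)⁻¹) by group]
  exact mul_mem (mul_mem (mul_mem ho' (Subgroup.mem_sup_left ha')) (inv_mem ho'))
    (Subgroup.mem_sup_right (hO.conj_mem c hc (o * n)))

end CfsgLib.A8ThreeClass
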