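import Cfsg.Agent.Lib.A8ThreeClass.Code
import Cfsg.Agent.Lib.A8Syl.Model
import Cfsg.Agent.Lib.Groups.SelfCentPrime
import Cfsg.Agent.Lib.Transfer.Basic
import Cfsg.Prelude.Def_CaseTheorems

/-!
An elementary abelian group of order sixteen with automiser the alternating group of degree five, inside
a group with Sylow 2-subgroups like those of the alternating group of degree eight.
-/

set_option autoImplicit false
set_option linter.style.haveILetI false
set_option linter.unusedSectionVars false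

open Cfsg

namespace CfsgLib.A8ThreeClass

variable {G : Type*} [Group G] [Finite G]

/-- The labelled configuration. -/
structure Lab (A : Subgroup G) (R : Sylow 2 G) (q : ↥(Subgroup.normalizer (A : Set G)) →* Equiv.Perm (Fin 5))
    (el : B4 → G) : Prop where
  h2 : ∀ a ∈ A, a * a = 1
  el_add : ∀ x y : B4, el (xr x y) = el x * el y
  el_inj : Function.Injective el
  el_iff : ∀ a : G, a ∈ A ↔ ∃ x, el x = a
  q_sign : ∀ n, Equiv.Perm.sign (q n) = 1
  q_surj : ∀ σ : Equiv.Perm (Fin 5), Equiv.Perm.sign σ = 1 → ∃ n, q n = σ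
  act_eq : ∀ (n : ↥(Subgroup.normalizer (A : Set G))) (x : B4), (n : G) * el x * (n : G)⁻¹ = el (act (q n) x)
  ker_eq : ∀ n, q n = 1 → ∃ o ∈ oddCore ↥(Subgroup.normalizer (A : Set G)), ∃ a ∈ A, (n : G) = (o : G) * a
  core_q : ∀ o ∈ oddCore ↥(Subgroup.normalizer (A : Set G)), q o = 1
  RN : (R : Subgroup G) ≤ Subgroup.normalizer (A : Set G)
  AR : A ≤ (R : Subgroup G)
  qR : ∀ (r : G) (hr : r ∈ (R : Subgroup G)), q ⟨r, RN hr⟩ ∈ four
  qR_surj : ∀ σ ∈ four, ∃ (r : G) (hr : r ∈ (R : Subgroup G)), q ⟨r, RN hr⟩ = σ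
  qR_ker : ∀ (r : G) (hr : r ∈ (R : Subgroup G)), q ⟨r, RN hr⟩ = 1 → r ∈ A

/-- the centre of a Sylow 2-subgroup of the alternating group of degree eight has order two -/
theorem center_table : ((List.range 64).all fun i =>
    !((List.range 64).all fun j => A8Syl.mS i j == A8Syl.mS j i) || i == 0 || i == A8Syl.iZ) = true := by
  decide +kernel

theorem sylow_facts
    (hS : ∀ Q : Sylow 2 G, ∀ P : Sylow 2 ↥(alternatingGroup (Fin 8)),
      Nonempty (↥(Q : Subgroup G) ≃* ↥(P : Subgroup ↥(alternatingGroup (Fin 8))))) (Q : Sylow 2 G) :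
    Nat.card (Q : Subgroup G) = 64 ∧
    ∀ x ∈ (Q : Subgroup G), ∀ y ∈ (Q : Subgroup G), (∀ t ∈ (Q : Subgroup G), x * t = t * x) →
      (∀ t ∈ (Q : Subgroup G), y * t = t * y) → x ≠ 1 → y ≠ 1 → x = y := by
  obtain ⟨φ, K⟩ := A8Syl.exists_hyp (Q : Subgroup G) (hS Q)
  refine ⟨K.card_eq, fun x hx y hy cx cy x1 y1 => ?_⟩
  have key : ∀ w ∈ (Q : Subgroup G), (∀ t ∈ (Q : Subgroup G), w * t = t * w) → w ≠ 1 → w = φ A8Syl.iZ := by
    intro w hw cw w1
    obtain ⟨i, hi, rfl⟩ := K.surj w hw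
    have h := center_table
    simp only [List.all_eq_true, List.mem_range, Bool.or_eq_true, Bool.not_eq_true', beq_iff_eq] at h
    rcases h i hi with (h | rfl) | rfl
    · exfalso
      have hall : ((List.range 64).all fun j => A8Syl.mS i j == A8Syl.mS j i) = true := by
        simp only [List.all_eq_true, List.mem_range, beq_iff_eq]
        exact fun j hj => (K.comm_iff hi hj).1 (cw _ (K.mem j hj))
      rw [hall] at h; exact Bool.noConfusion h
    · exact absurd K.one w1
    · rfl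
  rw [key x hx cx x1, key y hy cy y1]

/-- the fixed points of a `p`-subgroup on a normalised subgroup -/
theorem fixed_modEq {p : ℕ} [Fact p.Prime] {A P : Subgroup G} (hP : IsPGroup p P)
    (hPA : P ≤ Subgroup.normalizer (A : Set G)) :
    Nat.card A ≡ Nat.card ↥(A ⊓ Subgroup.centralizer (P : Set G)) [MOD p] := by
  let inst : MulAction P A :=
    { smul := fun r a => ⟨(r : G) * a * (r : G)⁻¹, (Subgroup.mem_normalizer_iff.1 (hPA r.2) a).1 a.2⟩
      one_smul := fun a => Subtype.ext (show ((1 : P) : G) * a * ((1 : P) : G)⁻¹ = a by simp)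
      mul_smul := fun r s a => Subtype.ext (show ((r * s : P) : G) * a * ((r * s : P) : G)⁻¹ =
        (r : G) * ((s : G) * a * (s : G)⁻¹) * (r : G)⁻¹ by push_cast; group) }
  letI := inst
  refine (hP.card_modEq_card_fixedPoints A).trans ?_
  rw [Nat.card_congr (show MulAction.fixedPoints P A ≃ ↥(A ⊓ Subgroup.centralizer (P : Set G)) from
      { toFun := fun a => ⟨(a : A), (a : A).2, fun r hr =>
          mul_inv_eq_iff_eq_mul.1 (congrArg Subtype.val (a.2 ⟨r, hr⟩))⟩
        invFun := fun a => ⟨⟨a, a.2.1⟩, fun r => Subtype.ext (mul_inv_eq_iff_eq_mul.2 (a.2.2 r r.2))⟩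
        left_inv := fun _ => rfl
        right_inv := fun _ => rfl })]

/-- multiply by a bit -/
def pw (z : G) (b : Bool) : G := bif b then z else 1

/-- Five elements permuted doubly transitively give the code. -/
theorem exists_el {A : Subgroup G} (h2 : ∀ a ∈ A, a * a = 1) (h16 : Nat.card A = 16)
    (q : ↥(Subgroup.normalizer (A : Set G)) →* Equiv.Perm (Fin 5))
    (hsurj : ∀ σ : Equiv.Perm (Fin 5), Equiv.Perm.sign σ = 1 → ∃ n, q n = σ)
    (zf : Fin 5 → G) (hmem : ∀ i, zf i ∈ A) (h1 : ∀ i, zf i ≠ 1) (hinj : Function.Injective zf)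
    (hconj : ∀ (n : ↥(Subgroup.normalizer (A : Set G))) (i : Fin 5), (n : G) * zf i * (n : G)⁻¹ = zf (q n i)) :
    ∃ el : B4 → G, (∀ x y : B4, el (xr x y) = el x * el y) ∧ Function.Injective el ∧
      (∀ a : G, a ∈ A ↔ ∃ x, el x = a) ∧
      ∀ (n : ↥(Subgroup.normalizer (A : Set G))) (x : B4), (n : G) * el x * (n : G)⁻¹ = el (act (q n) x) := by
  have hi : ∀ u ∈ A, u⁻¹ = u := fun u hu => inv_eq_of_mul_eq_one_right (h2 u hu)
  have hcomm : ∀ x ∈ A, ∀ y ∈ A, x * y = y * x := fun x hx y hy => by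
    calc x * y = (x * y)⁻¹ := (hi _ (mul_mem hx hy)).symm
      _ = y⁻¹ * x⁻¹ := mul_inv_rev x y
      _ = y * x := by rw [hi x hx, hi y hy]
  let el : B4 → G := fun x => pw (zf 0) (x 0) * pw (zf 1) (x 1) * (pw (zf 2) (x 2) * pw (zf 3) (x 3))
  have hpw : ∀ i b, pw (zf i) b ∈ A := fun i b => by cases b <;> simp [pw, hmem i, one_mem]
  have helA : ∀ x, el x ∈ A := fun x => mul_mem (mul_mem (hpw _ _) (hpw _ _)) (mul_mem (hpw _ _) (hpw _ _))
  have hxor : ∀ i b c, pw (zf i) (xor b c) = pw (zf i) b * pw (zf i) c := fun i b c => by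
    cases b <;> cases c <;> simp [pw, h2 _ (hmem i)]
  have mmm : ∀ a ∈ A, ∀ b ∈ A, ∀ c ∈ A, ∀ d ∈ A, (a * b) * (c * d) = (a * c) * (b * d) := by
    intro a _ b hb c hc d _
    rw [mul_assoc, ← mul_assoc b c d, hcomm b hb c hc]; group
  have hadd : ∀ x y : B4, el (xr x y) = el x * el y := by
    intro x y
    show pw (zf 0) (xor (x 0) (y 0)) * pw (zf 1) (xor (x 1) (y 1)) *
      (pw (zf 2) (xor (x 2) (y 2)) * pw (zf 3) (xor (x 3) (y 3))) = _
    simp only [hxor]
    rw [mmm _ (hpw _ _) _ (hpw _ _) _ (hpw _ _) _ (hpw _ _), mmm _ (hpw 2 _) _ (hpw 2 _) _ (hpw 3 _) _ (hpw 3 _),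
      mmm _ (mul_mem (hpw _ _) (hpw _ _)) _ (mul_mem (hpw _ _) (hpw _ _)) _ (mul_mem (hpw _ _) (hpw _ _)) _
        (mul_mem (hpw _ _) (hpw _ _))]
  have w2 : ∀ i j, i ≠ j → zf i * zf j ≠ 1 := fun i j hij e => hij (hinj (by
    rw [mul_eq_one_iff_eq_inv, hi _ (hmem j)] at e; exact e))
  have w3 : ∀ i j k, i ≠ j → i ≠ k → j ≠ k → zf i * zf j * zf k ≠ 1 := by
    intro i j k hij hik hjk e
    obtain ⟨l, hl1, hl2, hl3⟩ : ∃ l : Fin 5, l ≠ i ∧ l ≠ j ∧ l ≠ k := exists_other i j k
    obtain ⟨σ, hσ, si, sj, sk⟩ := three_cycle i j k l hij hik hjk hl1 hl2 hl3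
    obtain ⟨n, rfl⟩ := hsurj σ hσ
    have e' : zf i * zf j * zf l = 1 := by
      calc zf i * zf j * zf l = zf (q n i) * zf (q n j) * zf (q n k) := by rw [si, sj, sk]
        _ = (n : G) * (zf i * zf j * zf k) * (n : G)⁻¹ := by rw [← hconj, ← hconj, ← hconj]; group
        _ = 1 := by rw [e]; group
    exact hl3 (hinj (mul_left_cancel (e'.trans e.symm)))
  have w4 : ∀ i j k l, i ≠ j → i ≠ k → i ≠ l → j ≠ k → j ≠ l → k ≠ l →
      zf i * zf j * (zf k * zf l) ≠ 1 := by
    intro i j k l hij hik hil hjk hjl hkl e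
    obtain ⟨σ, hσ, si, sj, sk, sl⟩ := four_cycle i j k l hij hik hil hjk hjl hkl
    obtain ⟨n, rfl⟩ := hsurj σ hσ
    have e' : zf i * zf j * (zf l * zf (q n l)) = 1 := by
      calc zf i * zf j * (zf l * zf (q n l)) = zf (q n i) * zf (q n j) * (zf (q n k) * zf (q n l)) := by
            rw [si, sj, sk]
        _ = (n : G) * (zf i * zf j * (zf k * zf l)) * (n : G)⁻¹ := by
            rw [← hconj, ← hconj, ← hconj, ← hconj]; group
        _ = 1 := by rw [e]; group
    have h := mul_left_cancel (e'.trans e.symm)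
    rw [hcomm _ (hmem k) _ (hmem l)] at h
    exact sl (hinj (mul_left_cancel h))
  have hker : ∀ x, el x = 1 → x = zb4 := by
    intro x hx
    have hx' : pw (zf 0) (x 0) * pw (zf 1) (x 1) * (pw (zf 2) (x 2) * pw (zf 3) (x 3)) = 1 := hx
    cases h0 : x 0 <;> cases h1' : x 1 <;> cases h2' : x 2 <;> cases h3' : x 3 <;>
      rw [h0, h1', h2', h3'] at hx' <;>
      simp only [pw, cond_true, cond_false, one_mul, mul_one] at hx'
    · funext i; fin_cases i <;> assumption
    · exact absurd hx' (h1 3)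
    · exact absurd hx' (h1 2)
    · exact absurd hx' (w2 2 3 (by decide))
    · exact absurd hx' (h1 1)
    · exact absurd hx' (w2 1 3 (by decide))
    · exact absurd hx' (w2 1 2 (by decide))
    · exact absurd (by rw [mul_assoc]; exact hx') (w3 1 2 3 (by decide) (by decide) (by decide))
    · exact absurd hx' (h1 0)
    · exact absurd hx' (w2 0 3 (by decide))
    · exact absurd hx' (w2 0 2 (by decide))
    · exact absurd (by rw [mul_assoc]; exact hx') (w3 0 2 3 (by decide) (by decide) (by decide))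
    · exact absurd hx' (w2 0 1 (by decide))
    · exact absurd hx' (w3 0 1 3 (by decide) (by decide) (by decide))
    · exact absurd hx' (w3 0 1 2 (by decide) (by decide) (by decide))
    · exact absurd hx' (w4 0 1 2 3 (by decide) (by decide) (by decide) (by decide) (by decide) (by decide))
  have hinje : Function.Injective el := by
    intro x y h
    have h' : el (xr x y) = 1 := by rw [hadd, h]; exact h2 _ (helA y)
    have := hker _ h'
    funext i
    have hi' := congrFun this i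
    simp only [xr, zb4] at hi'
    cases hx : x i <;> cases hy : y i <;> simp_all
  have hsur : ∀ a ∈ A, ∃ x, el x = a := by
    intro a ha
    let f : B4 → A := fun x => ⟨el x, helA x⟩
    have hb : Function.Bijective f := by
      refine (Nat.bijective_iff_injective_and_card f).2 ⟨fun x y h => hinje (congrArg Subtype.val h), ?_⟩
      rw [h16, Nat.card_eq_fintype_card]; rfl
    obtain ⟨x, hx⟩ := hb.2 ⟨a, ha⟩
    exact ⟨x, congrArg Subtype.val hx⟩
  have h4 : ∀ i : Fin 5, el (zc i) = zf i := by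
    have h03 : el (zc 0) = zf 0 ∧ el (zc 1) = zf 1 ∧ el (zc 2) = zf 2 ∧ el (zc 3) = zf 3 := by
      simp [el, zc, un, pw]
    intro i
    fin_cases i
    · exact h03.1
    · exact h03.2.1
    · exact h03.2.2.1
    · exact h03.2.2.2
    show el (zc 4) = zf 4
    obtain ⟨x, hx⟩ := hsur _ (hmem 4)
    have hx' : pw (zf 0) (x 0) * pw (zf 1) (x 1) * (pw (zf 2) (x 2) * pw (zf 3) (x 3)) = zf 4 := hx
    have s4 : ∀ a, a = zf 4 → a * zf 4 = 1 := fun a ha => by rw [ha]; exact h2 _ (hmem 4)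
    cases h0 : x 0 <;> cases h1' : x 1 <;> cases h2' : x 2 <;> cases h3' : x 3 <;>
      rw [h0, h1', h2', h3'] at hx' <;>
      simp only [pw, cond_true, cond_false, one_mul, mul_one] at hx'
    · exact absurd hx'.symm (h1 4)
    · exact absurd (hinj hx') (by decide)
    · exact absurd (hinj hx') (by decide)
    · exact absurd (s4 _ hx') (w3 2 3 4 (by decide) (by decide) (by decide))
    · exact absurd (hinj hx') (by decide)
    · exact absurd (s4 _ hx') (w3 1 3 4 (by decide) (by decide) (by decide))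
    · exact absurd (s4 _ hx') (w3 1 2 4 (by decide) (by decide) (by decide))
    · exact absurd (by rw [← s4 _ hx']; group) (w4 1 2 3 4 (by decide) (by decide) (by decide) (by decide) (by decide) (by decide))
    · exact absurd (hinj hx') (by decide)
    · exact absurd (s4 _ hx') (w3 0 3 4 (by decide) (by decide) (by decide))
    · exact absurd (s4 _ hx') (w3 0 2 4 (by decide) (by decide) (by decide))
    · exact absurd (by rw [← s4 _ hx']; group) (w4 0 2 3 4 (by decide) (by decide) (by decide) (by decide) (by decide) (by decide))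
    · exact absurd (s4 _ hx') (w3 0 1 4 (by decide) (by decide) (by decide))
    · exact absurd (by rw [← s4 _ hx']; group) (w4 0 1 3 4 (by decide) (by decide) (by decide) (by decide) (by decide) (by decide))
    · exact absurd (by rw [← s4 _ hx']; group) (w4 0 1 2 4 (by decide) (by decide) (by decide) (by decide) (by decide) (by decide))
    · rw [← hx]
      congr 1
      funext i; fin_cases i <;> simp [zc, *]
  have hbs : ∀ b i, el (bs b (zc i)) = pw (zf i) b := by
    intro b i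
    cases b
    · simp [bs, zb4, el, pw]
    · simpa [bs, pw] using h4 i
  refine ⟨el, hadd, hinje, fun a => ⟨hsur a, fun ⟨x, hx⟩ => hx ▸ helA x⟩, fun n x => ?_⟩
  have hc : ∀ i b, (n : G) * pw (zf i) b * (n : G)⁻¹ = pw (zf (q n i)) b := fun i b => by
    cases b
    · simp [pw]
    · simpa [pw] using hconj n i
  rw [act, hadd, hadd, hadd, hbs, hbs, hbs, hbs, ← hc, ← hc, ← hc, ← hc]
  show (n : G) * (pw (zf 0) (x 0) * pw (zf 1) (x 1) * (pw (zf 2) (x 2) * pw (zf 3) (x 3))) * (n : G)⁻¹ = _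
  group

/-- **The labelled configuration exists.** -/
theorem exists_lab
    (hS : ∀ Q : Sylow 2 G, ∀ P : Sylow 2 ↥(alternatingGroup (Fin 8)),
      Nonempty (↥(Q : Subgroup G) ≃* ↥(P : Subgroup ↥(alternatingGroup (Fin 8)))))
    {A : Subgroup G} (h2 : ∀ a ∈ A, a * a = 1) (h16 : Nat.card A = 16)
    (hn : (A.subgroupOf (Subgroup.normalizer (A : Set G)) ⊔ oddCore ↥(Subgroup.normalizer (A : Set G))).Normal)
    (e : ↥(Subgroup.normalizer (A : Set G)) ⧸
      (A.subgroupOf (Subgroup.normalizer (A : Set G)) ⊔ oddCore ↥(Subgroup.normalizer (A : Set G))) ≃*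
        ↥(alternatingGroup (Fin 5))) :
    ∃ R q el, Lab A R q el := by
  classical
  haveI := Fact.mk Nat.prime_two
  haveI := hn
  set N := Subgroup.normalizer (A : Set G) with hNdef
  set A' := A.subgroupOf N with hA'def
  set O := oddCore ↥N with hOdef
  set K0 := A' ⊔ O with hK0def
  have hAN : A ≤ N := Subgroup.le_normalizer
  haveI hA'n : A'.Normal := Subgroup.normal_subgroupOf_of_le_normalizer le_rfl
  haveI hOn : O.Normal := Transfer.pPrimeCore_normal 2 _
  have hA'c : Nat.card A' = 16 := by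
    rw [hA'def, Nat.card_congr (Subgroup.subgroupOfEquivOfLe hAN).toEquiv, h16]
  have hOc : (Nat.card O).Coprime 2 := Transfer.pPrimeCore_coprime 2
  obtain ⟨m, hm, hm2⟩ : ∃ m, Nat.card K0 = 16 * m ∧ ¬ 2 ∣ m := by
    obtain ⟨m, hm⟩ := hA'c ▸ Subgroup.card_dvd_of_le (show A' ≤ K0 from le_sup_left)
    refine ⟨m, hm, fun h => ?_⟩
    have hd := SelfCent.card_sup_dvd_mul A' O
    rw [hA'c, ← hK0def, hm] at hd
    have := (h.trans (Nat.dvd_of_mul_dvd_mul_left (by norm_num) hd))
    exact (Nat.prime_two.coprime_iff_not_dvd.1 hOc.symm) this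
  let f : ↥N →* ↥(alternatingGroup (Fin 5)) := e.toMonoidHom.comp (QuotientGroup.mk' K0)
  have hfs : Function.Surjective f := e.surjective.comp (QuotientGroup.mk'_surjective K0)
  have hfk : ∀ n, f n = 1 ↔ n ∈ K0 := fun n => by
    show e (QuotientGroup.mk' K0 n) = 1 ↔ _
    rw [EmbeddingLike.map_eq_one_iff]
    exact QuotientGroup.eq_one_iff n
  let q : ↥N →* Equiv.Perm (Fin 5) := (alternatingGroup (Fin 5)).subtype.comp f
  have hqk : ∀ n, q n = 1 ↔ n ∈ K0 := fun n => by
    rw [← hfk n]; exact ⟨fun h => Subtype.ext h, fun h => by simp [q, h]⟩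
  have hqs : ∀ n, Equiv.Perm.sign (q n) = 1 := fun n => (f n).2
  have hqsur : ∀ σ : Equiv.Perm (Fin 5), Equiv.Perm.sign σ = 1 → ∃ n, q n = σ := fun σ hσ => by
    obtain ⟨n, hn'⟩ := hfs ⟨σ, hσ⟩
    exact ⟨n, congrArg Subtype.val hn'⟩
  have hcardN : Nat.card ↥N = 60 * Nat.card K0 := by
    rw [Subgroup.card_eq_card_quotient_mul_card_subgroup K0, Nat.card_congr e.toEquiv,
      Nat.card_eq_fintype_card (α := ↥(alternatingGroup (Fin 5))), card_alternatingGroup, Fintype.card_fin]
    rfl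
  have hfourA : four ≤ alternatingGroup (Fin 5) := fun σ hσ => (four_fix σ hσ).2.1
  set P' : Subgroup ↥N := (four.subgroupOf (alternatingGroup (Fin 5))).comap f with hP'def
  have hP'c : Nat.card P' = 4 * Nat.card K0 := by
    have h1 := P'.card_mul_index
    have h2' := (four.subgroupOf (alternatingGroup (Fin 5))).card_mul_index
    rw [Nat.card_congr (Subgroup.subgroupOfEquivOfLe hfourA).toEquiv, four_card,
      Nat.card_eq_fintype_card (α := ↥(alternatingGroup (Fin 5))), card_alternatingGroup, Fintype.card_fin] at h2'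
    have h2'' : (four.subgroupOf (alternatingGroup (Fin 5))).index = 15 := by
      have : (5 : ℕ).factorial / 2 = 60 := rfl
      omega
    rw [hP'def, Subgroup.index_comap_of_surjective _ hfs, h2'', hcardN, ← hP'def] at h1
    omega
  obtain ⟨R1⟩ : Nonempty (Sylow 2 P') := inferInstance
  have hR1 : Nat.card (R1 : Subgroup P') = 64 := by
    rw [R1.card_eq_multiplicity, hP'c, hm, show 4 * (16 * m) = 2 ^ 6 * m by ring,
      Nat.factorization_mul (by norm_num) (fun h => hm2 (by rw [h]; exact dvd_zero 2)), Finsupp.add_apply,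
      Nat.prime_two.factorization_pow, Finsupp.single_eq_same, Nat.factorization_eq_zero_of_not_dvd hm2]
    norm_num
  set R2 : Subgroup ↥N := (R1 : Subgroup P').map P'.subtype with hR2def
  have hR2P : R2 ≤ P' := Subgroup.map_subtype_le _
  have hR2c : Nat.card R2 = 64 := by
    rw [hR2def, Subgroup.card_map_of_injective P'.subtype_injective, hR1]
  have hA2 : IsPGroup 2 A' := IsPGroup.of_card (n := 4) (by rw [hA'c]; norm_num)
  have hA'P : A' ≤ P' := fun x hx => by
    show f x ∈ four.subgroupOf (alternatingGroup (Fin 5))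
    rw [(hfk x).2 (Subgroup.mem_sup_left hx)]
    exact one_mem _
  have hA'R : A' ≤ R2 := by
    haveI : (A'.subgroupOf P').Normal := Subgroup.normal_subgroupOf
    have hsup : IsPGroup 2 ↥((R1 : Subgroup P') ⊔ A'.subgroupOf P') :=
      R1.2.to_sup_of_normal_right (hA2.comap_subtype)
    have := R1.3 hsup le_sup_left
    intro x hx
    exact ⟨⟨x, hA'P hx⟩, this ▸ Subgroup.mem_sup_right (show (⟨x, hA'P hx⟩ : P') ∈ A'.subgroupOf P' from hx), rfl⟩
  set RG : Subgroup G := R2.map N.subtype with hRGdef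
  obtain ⟨S0⟩ : Nonempty (Sylow 2 G) := inferInstance
  let R : Sylow 2 G := Sylow.ofCard RG (by
    rw [hRGdef, Subgroup.card_map_of_injective N.subtype_injective, hR2c, ← S0.card_eq_multiplicity,
      (sylow_facts hS S0).1])
  have hRN : (R : Subgroup G) ≤ N := Subgroup.map_subtype_le _
  have hAR : A ≤ (R : Subgroup G) := fun a ha => ⟨⟨a, hAN ha⟩, hA'R ha, rfl⟩
  have hRmem : ∀ (r : G) (hr : r ∈ (R : Subgroup G)), (⟨r, hRN hr⟩ : ↥N) ∈ R2 := by
    rintro r ⟨x, hx, rfl⟩
    exact hx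
  have hqR : ∀ (r : G) (hr : r ∈ (R : Subgroup G)), q ⟨r, hRN hr⟩ ∈ four := fun r hr => hR2P (hRmem r hr)
  have hker : ∀ x ∈ R2, x ∈ K0 → x ∈ A' := by
    intro x hx hxK
    have h : A' = R2 ⊓ K0 := by
      refine Subgroup.eq_of_le_of_card_ge (le_inf hA'R le_sup_left) ?_
      have h1 : Nat.card ↥(R2 ⊓ K0) ∣ 16 * m := hm ▸ Subgroup.card_dvd_of_le inf_le_right
      have h64 : Nat.card ↥(R2 ⊓ K0) ∣ 2 ^ 6 := by
        have := Subgroup.card_dvd_of_le (inf_le_left : R2 ⊓ K0 ≤ R2)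
        rwa [hR2c] at this
      have hco : (Nat.card ↥(R2 ⊓ K0)).Coprime m :=
        ((Nat.prime_two.coprime_iff_not_dvd.2 hm2).pow_left 6).coprime_dvd_left h64
      have := Nat.le_of_dvd (by norm_num) (hco.dvd_of_dvd_mul_right h1)
      rw [hA'c]; exact this
    rw [h]; exact ⟨hx, hxK⟩
  let gR : ↥R2 →* Equiv.Perm (Fin 5) := q.comp R2.subtype
  have hrange : gR.range = four := by
    refine Subgroup.eq_of_le_of_card_ge ?_ ?_
    · rintro _ ⟨x, rfl⟩; exact hR2P x.2
    · have hk : gR.ker = A'.subgroupOf R2 := by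
        ext x
        exact ⟨fun h => hker x x.2 ((hqk x).1 h), fun h => (hqk x).2 (Subgroup.mem_sup_left h)⟩
      have h1 := gR.ker.card_mul_index
      rw [Subgroup.index_ker, hk, Nat.card_congr (Subgroup.subgroupOfEquivOfLe hA'R).toEquiv, hA'c, hR2c] at h1
      rw [four_card]; omega
  have hqRs : ∀ σ ∈ four, ∃ (r : G) (hr : r ∈ (R : Subgroup G)), q ⟨r, hRN hr⟩ = σ := by
    intro σ hσ
    rw [← hrange] at hσ
    obtain ⟨x, rfl⟩ := hσ
    exact ⟨((x : ↥N) : G), ⟨(x : ↥N), x.2, rfl⟩, rfl⟩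
  have hAO : ∀ a ∈ A', ∀ o ∈ O, a * o = o * a := by
    intro a ha o ho
    refine Subgroup.commute_of_normal_of_disjoint A' O hA'n hOn ?_ a o ha ho
    rw [disjoint_iff, ← Subgroup.card_eq_one]
    refine Nat.eq_one_of_dvd_coprimes (a := 2 ^ 4) (b := Nat.card O) (hOc.symm.pow_left 4) ?_
      (Subgroup.card_dvd_of_le inf_le_right)
    have := Subgroup.card_dvd_of_le (inf_le_left : A' ⊓ O ≤ A')
    rwa [hA'c] at this
  have hKcent : ∀ n ∈ K0, ∀ a ∈ A, (n : G) * a = a * (n : G) := by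
    intro n hn' a ha
    obtain ⟨b, hb, o, ho, rfl⟩ := Subgroup.mem_sup_of_normal_right.1 hn'
    have h1 : (b : G) * a = a * b := by
      have hinv : ∀ u ∈ A, u⁻¹ = u := fun u hu => inv_eq_of_mul_eq_one_right (h2 u hu)
      calc (b : G) * a = ((b : G) * a)⁻¹ := (hinv _ (mul_mem hb ha)).symm
        _ = a⁻¹ * (b : G)⁻¹ := mul_inv_rev _ _
        _ = _ := by rw [hinv a ha, hinv (b : G) hb]
    have h3 : (o : G) * a = a * o := congrArg Subtype.val (hAO ⟨a, hAN ha⟩ ha o ho).symm
    show (b : G) * o * a = a * ((b : G) * o)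
    rw [mul_assoc, h3, ← mul_assoc, h1, mul_assoc]
  have hfaith : ∀ n : ↥N, (∀ a ∈ A, (n : G) * a = a * (n : G)) → q n = 1 := by
    intro n hn'
    by_contra hne
    set C : Subgroup ↥N := (Subgroup.centralizer (A : Set G)).subgroupOf N with hC
    haveI : C.Normal := by
      refine ⟨fun x hx g => ?_⟩
      show (g : G) * x * (g : G)⁻¹ ∈ Subgroup.centralizer (A : Set G)
      intro y hy
      have hy' : (g : G)⁻¹ * y * g ∈ A := by
        simpa [mul_assoc] using (Subgroup.mem_normalizer_iff.1 (inv_mem g.2) y).1 hy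
      have e1 : (g : G)⁻¹ * y * g * (x : G) = (x : G) * ((g : G)⁻¹ * y * g) := hx _ hy'
      calc y * ((g : G) * x * (g : G)⁻¹) = g * (((g : G)⁻¹ * y * g) * x) * (g : G)⁻¹ := by group
        _ = g * ((x : G) * ((g : G)⁻¹ * y * g)) * (g : G)⁻¹ := by rw [e1]
        _ = _ := by group
    haveI hmap : (C.map f).Normal := Subgroup.Normal.map inferInstance f hfs
    haveI := alternatingGroup.isSimpleGroup_five
    have hnC : n ∈ C := fun y hy => (hn' y hy).symm
    rcases hmap.eq_bot_or_eq_top with hb | ht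
    · exact hne ((hqk n).2 ((hfk n).1 (Subgroup.mem_bot.1 (hb ▸ Subgroup.mem_map_of_mem f hnC))))
    · have hall : ∀ x : ↥N, x ∈ C := by
        intro x
        obtain ⟨c, hc, hcx⟩ : f x ∈ C.map f := ht ▸ Subgroup.mem_top _
        have : c⁻¹ * x ∈ K0 := (hfk _).1 (by rw [map_mul, map_inv, hcx, inv_mul_cancel])
        have hC' : c⁻¹ * x ∈ C := fun y hy => (hKcent _ this y hy).symm
        simpa using mul_mem hc hC'
      obtain ⟨a, ha, ha1⟩ : ∃ a ∈ A, a ≠ 1 := by
        by_contra h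
        push Not at h
        have : A = ⊥ := (Subgroup.eq_bot_iff_forall A).2 h
        rw [this, Subgroup.card_bot] at h16; omega
      obtain ⟨b, hb, hb1, hba⟩ : ∃ b ∈ A, b ≠ 1 ∧ b ≠ a := by
        by_contra h
        push Not at h
        have hsub : (A : Set G) ⊆ {1, a} := fun x hx => by
          by_cases h' : x = 1
          · exact Or.inl h'
          · exact Or.inr (h x hx h')
        have := Set.ncard_le_ncard hsub (Set.toFinite _)
        rw [← Nat.card_coe_set_eq, SetLike.coe_sort_coe, h16, Set.ncard_pair (Ne.symm ha1)] at this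
        omega
      exact hba ((sylow_facts hS R).2 b (hAR hb) a (hAR ha)
        (fun t ht' => hall ⟨t, hRN ht'⟩ b hb) (fun t ht' => hall ⟨t, hRN ht'⟩ a ha) hb1 ha1)
  -- the central involution of `R` inside `A`
  obtain ⟨z, ⟨hzA, hzR⟩, hz1⟩ : ∃ z ∈ A ⊓ Subgroup.centralizer ((R : Subgroup G) : Set G), z ≠ 1 := by
    by_contra h
    push Not at h
    have hmod := fixed_modEq (A := A) R.2 hRN
    rw [(Subgroup.eq_bot_iff_forall _).2 h, Subgroup.card_bot, h16] at hmod
    exact absurd hmod (by decide)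
  have huniq : ∀ w ∈ A, w ≠ 1 → (∀ t ∈ (R : Subgroup G), w * t = t * w) → w = z := fun w hw hw1 hc =>
    (sylow_facts hS R).2 w (hAR hw) z (hAR hzA) hc (fun t ht => (hzR t ht).symm) hw1 hz1
  have hfix : ∀ n : ↥N, q n 4 = 4 → (n : G) * z * (n : G)⁻¹ = z := by
    intro n h4
    refine huniq _ ((Subgroup.mem_normalizer_iff.1 n.2 z).1 hzA) (fun h => hz1 (conj_eq_one_iff.1 h)) fun t ht => ?_
    have hτ : q (n⁻¹ * ⟨t, hRN ht⟩ * n) ∈ four := by
      rw [map_mul, map_mul, map_inv]
      have hs : Equiv.Perm.sign (q n)⁻¹ = 1 := by rw [map_inv, hqs]; rfl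
      have hf4 : (q n)⁻¹ 4 = 4 := Equiv.Perm.inv_eq_iff_eq.2 h4.symm
      have := stab_four _ hs hf4 _ (hqR t ht)
      rw [inv_inv] at this
      exact this
    obtain ⟨r, hr, hrq⟩ := hqRs _ hτ
    set w : ↥N := (⟨r, hRN hr⟩ : ↥N)⁻¹ * (n⁻¹ * ⟨t, hRN ht⟩ * n) with hwdef
    have hwK : w ∈ K0 := (hqk w).1 (by rw [hwdef, map_mul, map_inv, hrq, inv_mul_cancel])
    have hwz := hKcent w hwK z hzA
    have hrz : r * z = z * r := hzR r hr
    have e1 : (n : G)⁻¹ * t * n * z = z * ((n : G)⁻¹ * t * n) := by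
      have e2 : (n : G)⁻¹ * t * n = r * (w : G) := by rw [hwdef]; push_cast; group
      rw [e2, mul_assoc, hwz, ← mul_assoc, hrz, mul_assoc]
    calc (n : G) * z * (n : G)⁻¹ * t = n * (z * ((n : G)⁻¹ * t * n)) * (n : G)⁻¹ := by group
      _ = n * ((n : G)⁻¹ * t * n * z) * (n : G)⁻¹ := by rw [e1]
      _ = _ := by group
  choose ns hns hns4 using fun i => (trans_four i)
  choose nn hnn using fun i => hqsur (ns i) (hns i)
  let zf : Fin 5 → G := fun i => (nn i : G) * z * (nn i : G)⁻¹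
  have hconj : ∀ (n : ↥N) (i : Fin 5), (n : G) * zf i * (n : G)⁻¹ = zf (q n i) := by
    intro n i
    have h := hfix ((nn (q n i))⁻¹ * (n * nn i)) (by
      rw [map_mul, map_inv, map_mul, hnn, hnn, Equiv.Perm.mul_apply, Equiv.Perm.mul_apply, hns4,
        Equiv.Perm.inv_eq_iff_eq, hns4])
    push_cast at h
    calc (n : G) * ((nn i : G) * z * (nn i : G)⁻¹) * (n : G)⁻¹
        = (nn (q n i) : G) * (((nn (q n i) : G)⁻¹ * ((n : G) * nn i)) * z *
            ((nn (q n i) : G)⁻¹ * ((n : G) * nn i))⁻¹) * (nn (q n i) : G)⁻¹ := by group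
      _ = _ := by rw [h]
  have hzf : ∀ i, zf i ∈ A := fun i => (Subgroup.mem_normalizer_iff.1 (nn i).2 z).1 hzA
  have hzf1 : ∀ i, zf i ≠ 1 := fun i h => hz1 (conj_eq_one_iff.1 h)
  have hinj : Function.Injective zf := by
    intro i j hij
    by_contra hne
    have hall : ∀ k l, zf k = zf l := by
      intro k l
      rcases eq_or_ne k l with rfl | hkl
      · rfl
      obtain ⟨σ, hσ, hσi, hσj⟩ := two_trans i j k l hne hkl
      obtain ⟨n, rfl⟩ := hqsur σ hσ
      rw [← hσi, ← hσj, ← hconj, ← hconj, hij]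
    haveI := Fact.mk (show Nat.Prime 5 by norm_num)
    obtain ⟨σ, hσ, hσ5⟩ := five_cycle
    obtain ⟨y, rfl⟩ := hqsur σ hσ
    obtain ⟨k, m', hm', hk⟩ := Nat.exists_eq_pow_mul_and_not_dvd (orderOf_pos y).ne' 5 (by norm_num)
    have hy5 : q (y ^ m') ≠ 1 := by
      rw [map_pow, ne_eq, ← orderOf_dvd_iff_pow_eq_one, hσ5]; exact hm'
    have hp : IsPGroup 5 ↥(Subgroup.zpowers ((y ^ m' : ↥N) : G)) := by
      refine Transfer.isPGroup_zpowers ?_
      obtain ⟨l, -, hl⟩ := (Nat.dvd_prime_pow (Fact.out : Nat.Prime 5)).1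
        (orderOf_dvd_of_pow_eq_one (x := y ^ m') (n := 5 ^ k) (by
          rw [← pow_mul, mul_comm, ← hk, pow_orderOf_eq_one]))
      exact ⟨l, by rw [Subgroup.orderOf_coe, hl]⟩
    have hmod := fixed_modEq (A := A) hp (Subgroup.zpowers_le.2 (y ^ m' : ↥N).2)
    set B := A ⊓ Subgroup.centralizer ((Subgroup.zpowers ((y ^ m' : ↥N) : G) : Subgroup G) : Set G) with hB
    have hzB : zf 4 ∈ B := by
      refine ⟨hzf 4, fun t ht => ?_⟩
      obtain ⟨e', rfl⟩ := Subgroup.mem_zpowers_iff.1 ht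
      refine (Commute.zpow_left ?_ e').eq
      exact mul_inv_eq_iff_eq_mul.1 ((hconj (y ^ m') 4).trans (hall _ _))
    have hB1 : Nat.card B ≠ 1 := fun h => hzf1 4 (Subgroup.mem_bot.1 (Subgroup.eq_bot_of_card_eq B h ▸ hzB))
    have hd : Nat.card B ∣ 2 ^ 4 := by
      have := Subgroup.card_dvd_of_le (inf_le_left : B ≤ A)
      rwa [h16] at this
    obtain ⟨l, hl, hlc⟩ := (Nat.dvd_prime_pow Nat.prime_two).1 hd
    rw [h16, hlc] at hmod
    have hl4 : l = 4 := by
      interval_cases l <;> first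
        | rfl
        | exact absurd hmod (by decide)
        | exact absurd hlc hB1
    have hBA : B = A := Subgroup.eq_of_le_of_card_ge inf_le_left (by rw [hlc, hl4, h16]; norm_num)
    refine hy5 (hfaith _ fun a ha => ?_)
    exact ((hBA.symm ▸ ha : a ∈ B).2 _ (Subgroup.mem_zpowers _))
  obtain ⟨el, hadd, heinj, helA, hact⟩ := exists_el h2 h16 q hqsur zf hzf hzf1 hinj hconj
  refine ⟨R, q, el, ⟨h2, hadd, heinj, helA, hqs, hqsur, hact, fun n hn' => ?_,
    fun o ho => (hqk o).2 (Subgroup.mem_sup_right ho), hRN, hAR, hqR, hqRs,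
    fun r hr h => hker _ (hRmem r hr) ((hqk _).1 h)⟩⟩
  obtain ⟨a, ha, o, ho, rfl⟩ := Subgroup.mem_sup_of_normal_right.1 ((hqk n).1 hn')
  refine ⟨o, ho, a, ha, ?_⟩
  show (a : G) * o = o * a
  exact congrArg Subtype.val (hAO a ha o ho)

end CfsgLib.A8ThreeClass
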